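import Groth.Agent.CohDev.Loc
import Groth.Agent.KFlat.StalkCx
import Groth.Agent.LFFrame.Basic

/-!
Tensoring coherent modules with a finite locally free module, up to smaller supports.
-/

universe u

open CategoryTheory Limits AlgebraicGeometry Opposite TopologicalSpace
open scoped TensorProduct

noncomputable section

namespace Groth.Agent.CohDev

open Groth.Agent.PullStalk.Sky Groth.Agent.PullStalk.Exact Groth.Agent.KFlat.StalkTensor

variable {X : Scheme.{u}}

/-- `V ⊗ G`. -/
abbrev tens (V G : X.Modules) : X.Modules := ((DCoh.tensorBi (X := X)).obj V).obj G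

lemma stalkLin_sum_apply {ι : Type*} {A B : X.Modules} (s : Finset ι) (f : ι → (A ⟶ B)) (x : X)
    (t : A.presheaf.stalk x) : stalkLin (∑ i ∈ s, f i) x t = ∑ i ∈ s, stalkLin (f i) x t := by
  classical
  induction s using Finset.induction with
  | empty => simp only [Finset.sum_empty]; exact stalkLin_zero_apply x t
  | insert a s ha ih => rw [Finset.sum_insert ha, Finset.sum_insert ha, stalkLin_add_apply, ih]

lemma support_tens_subset (V G : X.Modules) :
    CohB1.support (tens V G) ⊆ CohB1.support G := fun x hx hG ↦ hx <| by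
  haveI : Subsingleton (G.presheaf.stalk x) := hG
  haveI : Subsingleton (V.presheaf.stalk x ⊗[X.presheaf.stalk x] G.presheaf.stalk x) :=
    subsingleton_of_forall_eq 0 fun z ↦ by
      induction z using TensorProduct.induction_on with
      | zero => rfl
      | tmul a b => rw [Subsingleton.elim b 0, TensorProduct.tmul_zero]
      | add a b ha hb => rw [ha, hb, add_zero]
  exact (stalkTensorEquiv V G x).injective.subsingleton

variable (U : X.Opens) {V : X.Modules} (G : X.Modules) (s : Γ(V, U))

/-- `g ↦ s ⊗ g` on an open. -/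
def tensSecU : (Scheme.Modules.restrictFunctor U.ι).obj G ⟶
    (Scheme.Modules.restrictFunctor U.ι).obj (tens V G) :=
  ⟨PresheafOfModules.homMk
    { app := fun W => AddCommGrpCat.ofHom (show Γ(G, U.ι ''ᵁ W.unop) →+ Γ(tens V G, U.ι ''ᵁ W.unop) from
        AddMonoidHom.mk' (fun g => tmulSec (U.ι ''ᵁ W.unop)
          (V.presheaf.map (homOfLE (U.ι_image_le W.unop)).op s) g)
          fun a b => tmulSec_add_right _ _ a b)
      naturality := fun {W W'} i => by
        ext a
        let j : U.ι ''ᵁ W'.unop ≤ U.ι ''ᵁ W.unop := U.ι.image_mono i.unop.le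
        let a' : Γ(G, U.ι ''ᵁ W.unop) := a
        change tmulSec (U.ι ''ᵁ W'.unop) (V.presheaf.map (homOfLE (U.ι_image_le W'.unop)).op s)
            (G.presheaf.map (homOfLE j).op a') =
          (tens V G).presheaf.map (homOfLE j).op
            (tmulSec (U.ι ''ᵁ W.unop) (V.presheaf.map (homOfLE (U.ι_image_le W.unop)).op s) a')
        refine Eq.trans ?_ (tmulSec_res (M := V) (N := G) (homOfLE j) _ a').symm
        rw [LFFrame.res_res] }
    (fun W (r : Γ((U : Scheme.{u}), W.unop)) (a : Γ((Scheme.Modules.restrictFunctor U.ι).obj G, W.unop)) => by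
      let a' : Γ(G, U.ι ''ᵁ W.unop) := a
      change tmulSec (U.ι ''ᵁ W.unop) (V.presheaf.map (homOfLE (U.ι_image_le W.unop)).op s)
          ((U.ι.appIso W.unop).inv r • a') =
        (U.ι.appIso W.unop).inv r •
          tmulSec (U.ι ''ᵁ W.unop) (V.presheaf.map (homOfLE (U.ι_image_le W.unop)).op s) a'
      exact tmulSec_smul_right _ _ _ _)⟩

/-- The module `j_* j^* (V ⊗ G)`. -/
abbrev target (V G : X.Modules) : X.Modules :=
  (Scheme.Modules.pushforward U.ι).obj ((Scheme.Modules.restrictFunctor U.ι).obj (tens V G))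

/-- The unit. -/
abbrev η (M : X.Modules) : M ⟶
    (Scheme.Modules.pushforward U.ι).obj ((Scheme.Modules.restrictFunctor U.ι).obj M) :=
  (Scheme.Modules.restrictAdjunction U.ι).unit.app M

/-- `g ↦ s ⊗ g`. -/
def tensSec : G ⟶ target U V G :=
  η U G ≫ (Scheme.Modules.pushforward U.ι).map (tensSecU U G s)

lemma stalk_tensSec {x : X} (hx : x ∈ U) (t : G.presheaf.stalk x) :
    stalkLin (tensSec U G s) x t =
      stalkLin (η U (tens V G)) x (fromTensor V G x (germM V U x hx s ⊗ₜ t)) := by
  obtain ⟨W, hxW, g, rfl⟩ := exists_germM_eq G x t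
  let W' : X.Opens := W ⊓ U
  have hx' : x ∈ W' := ⟨hxW, hx⟩
  let g' : Γ(G, W') := G.presheaf.map (homOfLE inf_le_left).op g
  let s' : Γ(V, W') := V.presheaf.map (homOfLE inf_le_right).op s
  have e1 : germM G W x hxW g = germM G W' x hx' g' :=
    (G.presheaf.germ_res_apply (homOfLE inf_le_left) x hx' g).symm
  have e2 : germM V U x hx s = germM V W' x hx' s' :=
    (V.presheaf.germ_res_apply (homOfLE inf_le_right) x hx' s).symm
  rw [e1, e2, fromTensor_germ]
  unfold tgerm
  refine (stalkLin_germ (tensSec U G s) W' x hx' g').trans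
    (Eq.trans ?_ (stalkLin_germ (η U (tens V G)) W' x hx' _).symm)
  refine congrArg (germM (target U V G) W' x hx') ?_
  let W'' : X.Opens := U.ι ''ᵁ (U.ι ⁻¹ᵁ W')
  change tmulSec W'' (V.presheaf.map (homOfLE (U.ι_image_le _)).op s)
      (G.presheaf.map (homOfLE (U.ι.image_preimage_le W')).op g') =
    (tens V G).presheaf.map (homOfLE (U.ι.image_preimage_le W')).op (tmulSec W' s' g')
  refine Eq.trans ?_ (tmulSec_res (M := V) (N := G) (homOfLE (U.ι.image_preimage_le W')) s' g').symm
  simp only [s', LFFrame.res_res]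
  rfl

/-! ### finite sums -/

instance hasFiniteBiproductsModules : HasFiniteBiproducts X.Modules := HasFiniteBiproducts.of_hasFiniteProducts

/-- `G ⊕ ⋯ ⊕ G`. -/
abbrev pow (G : X.Modules) (r : ℕ) : X.Modules := ⨁ fun _ : Fin r => G

lemma support_pow_subset (r : ℕ) : CohB1.support (pow G r) ⊆ CohB1.support G := fun x hx hG ↦ hx <| by
  haveI : Subsingleton (G.presheaf.stalk x) := hG
  refine subsingleton_of_forall_eq 0 fun t ↦ ?_
  rw [← stalkLin_id_apply x t, ← biproduct.total, stalkLin_sum_apply]
  refine Finset.sum_eq_zero fun i _ ↦ ?_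
  rw [stalkLin_comp_apply, Subsingleton.elim (stalkLin (biproduct.π _ i) x t) 0, map_zero]

/-- `G^{r+1} ≅ G ⊞ G^r`. -/
def powSucc (r : ℕ) : pow G (r + 1) ≅ G ⊞ pow G r where
  hom := biprod.lift (biproduct.π (fun _ : Fin (r + 1) => G) 0)
    (biproduct.lift fun i : Fin r => biproduct.π (fun _ : Fin (r + 1) => G) i.succ)
  inv := biprod.desc (biproduct.ι (fun _ : Fin (r + 1) => G) 0)
    (biproduct.desc fun i : Fin r => biproduct.ι (fun _ : Fin (r + 1) => G) i.succ)
  hom_inv_id := by
    rw [biprod.lift_desc, biproduct.lift_desc]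
    conv_rhs => rw [← biproduct.total, Fin.sum_univ_succ]
  inv_hom_id := by
    apply biprod.hom_ext' <;> apply biprod.hom_ext
    · simp
    · refine biproduct.hom_ext _ _ fun i => ?_
      simp [biproduct.ι_π_ne _ (Fin.succ_ne_zero i).symm]
    · refine biproduct.hom_ext' _ _ fun i => ?_
      simp [biproduct.ι_π_ne _ (Fin.succ_ne_zero i)]
    · refine biproduct.hom_ext' _ _ fun i => biproduct.hom_ext _ _ fun j => ?_
      rcases eq_or_ne i j with rfl | h
      · simp
      · simp [biproduct.ι_π_ne _ h, biproduct.ι_π_ne _ (fun e => h (Fin.succ_inj.mp e))]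

theorem isCoh_pow_and_kcl {G : X.Modules} (hG : Coh.IsCoh G) :
    ∀ r : ℕ, Coh.IsCoh (pow G r) ∧ kcl (pow G r) = r • kcl G := by
  intro r
  induction r with
  | zero =>
    have hz : IsZero (pow G 0) := by
      rw [IsZero.iff_id_eq_zero, ← biproduct.total]
      simp
    exact ⟨isCoh_of_isZero hz, by rw [kcl_of_isZero hz, zero_smul]⟩
  | succ r ih =>
    have h := isCoh_biprod hG ih.1
    refine ⟨isCoh_of_iso (powSucc G r).symm h, ?_⟩
    rw [← kcl_iso (powSucc G r).symm h, kcl_biprod hG ih.1, ih.2, succ_nsmul']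

/-! ### The comparison on an open with a frame -/

variable {U}

/-- `G^r ⟶ j_* j^* (V ⊗ G)`. -/
def cmp {r : ℕ} (e : Fin r → Γ(V, U)) : pow G r ⟶ target U V G :=
  biproduct.desc fun i => tensSec U G (e i)

lemma stalk_η_bijective (M : X.Modules) {x : X} (hx : x ∈ U) :
    Function.Bijective (stalkLin (η U M) x) := by
  let adj := Scheme.Modules.restrictAdjunction U.ι
  haveI : IsIso ((Scheme.Modules.restrictFunctor U.ι).map (η U M)) := by
    have h := adj.left_triangle_components M
    have : IsIso ((Scheme.Modules.restrictFunctor U.ι).map (η U M) ≫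
        adj.counit.app ((Scheme.Modules.restrictFunctor U.ι).obj M)) := by
      rw [h]; infer_instance
    exact IsIso.of_isIso_comp_right _ (adj.counit.app ((Scheme.Modules.restrictFunctor U.ι).obj M))
  exact stalk_bijective_of_isIso_restrict U.ι (η U M) (by rw [Scheme.Opens.range_ι]; exact hx)

theorem stalk_cmp_bijective {r : ℕ} {e : Fin r → Γ(V, U)} (he : LFFrame.IsFrame V U e) {x : X}
    (hx : x ∈ U) : Function.Bijective (stalkLin (cmp G e) x) := by
  classical
  let b : Module.Basis (Fin r) (X.presheaf.stalk x) (V.presheaf.stalk x) :=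
    Module.Basis.ofEquivFun (LinearEquiv.ofBijective (LFFrame.stalkComb V e x hx)
      (he.stalkComb_bijective x hx)).symm
  have hb : ∀ i, b i = germM V U x hx (e i) := fun i => by
    simp only [b, Module.Basis.coe_ofEquivFun, LinearEquiv.symm_symm, LinearEquiv.ofBijective_apply,
      LFFrame.stalkComb, Fintype.linearCombination_apply_single, one_smul]
  let φ : (Fin r → G.presheaf.stalk x) → V.presheaf.stalk x ⊗[X.presheaf.stalk x] G.presheaf.stalk x :=
    fun c => ∑ i, b i ⊗ₜ c i
  have hφ : ∀ k, stalkLin (cmp G e) x k = stalkLin (η U (tens V G)) x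
      ((stalkTensorEquiv V G x).symm
        (φ fun i : Fin r => stalkLin (biproduct.π (fun _ : Fin r => G) i) x k)) := by
    intro k
    have hk : k = ∑ i : Fin r, stalkLin (biproduct.π (fun _ : Fin r => G) i ≫
        biproduct.ι (fun _ : Fin r => G) i) x k := by
      rw [← stalkLin_sum_apply, biproduct.total, stalkLin_id_apply]
    refine ((congrArg (stalkLin (cmp G e) x) hk).trans (map_sum (stalkLin (cmp G e) x) _ _)).trans
      (Eq.trans ?_ ((congrArg (stalkLin (η U (tens V G)) x)
        (map_sum (stalkTensorEquiv V G x).symm _ _)).trans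
          (map_sum (stalkLin (η U (tens V G)) x) _ _)).symm)
    refine Finset.sum_congr rfl fun i _ => ?_
    rw [← stalkLin_comp_apply, Category.assoc, cmp, biproduct.ι_desc, stalkLin_comp_apply,
      stalk_tensSec U G (e i) hx, hb]
    rfl
  have hφb : Function.Bijective φ := by
    have : φ = fun c => (TensorProduct.equivFinsuppOfBasisLeft b).symm
        (Finsupp.equivFunOnFinite.symm c) := by
      funext c
      rw [TensorProduct.equivFinsuppOfBasisLeft_symm_apply, Finsupp.sum_fintype _ _ (by simp)]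
      simp [φ]
    rw [this]
    exact (LinearEquiv.bijective _).comp (Equiv.bijective _)
  have hη := stalk_η_bijective (tens V G) hx
  constructor
  · rw [injective_iff_map_eq_zero]
    intro k hk
    rw [hφ] at hk
    have h1 := (stalkTensorEquiv V G x).symm.injective
      ((hη.1 (hk.trans (map_zero _).symm)).trans (map_zero _).symm)
    have h2 : (fun i => stalkLin (biproduct.π (fun _ : Fin r => G) i) x k) = 0 :=
      hφb.1 (h1.trans (by simp [φ]))
    rw [← stalkLin_id_apply x k, ← biproduct.total, stalkLin_sum_apply]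
    refine Finset.sum_eq_zero fun i _ => ?_
    rw [stalkLin_comp_apply, congrFun h2 i]
    exact map_zero _
  · intro t
    obtain ⟨z, rfl⟩ := hη.2 t
    obtain ⟨c, hc⟩ := hφb.2 (stalkTensorEquiv V G x z)
    refine ⟨∑ i, stalkLin (biproduct.ι (fun _ : Fin r => G) i) x (c i), ?_⟩
    rw [hφ]
    refine congrArg _ ((stalkTensorEquiv V G x).symm_apply_eq.mpr (Eq.trans ?_ hc))
    refine congrArg φ (funext fun i => ?_)
    rw [map_sum, Finset.sum_eq_single i]
    · rw [← stalkLin_comp_apply, biproduct.ι_π_self, stalkLin_id_apply]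
    · intro j _ hj
      rw [← stalkLin_comp_apply, biproduct.ι_π_ne _ hj, stalkLin_zero_apply]
    · simp

theorem exists_frame {r : ℕ} (hV : FlatMod.IsFinLocFreeOfRank r V) (x : X) :
    ∃ (U : X.Opens) (e : Fin r → Γ(V, U)), x ∈ U ∧ LFFrame.IsFrame V U e := by
  classical
  obtain ⟨U, hx, ⟨φ⟩⟩ := hV x
  let p : Fin r → (FlatMod.freeMod (U : Scheme.{u}) r ⟶ Coh.structureModule (U : Scheme.{u})) :=
    fun j => Sigma.desc fun i => if i = j then 𝟙 _ else 0
  obtain ⟨e, he⟩ := LFFrame.exists_isFrame_of_split (M := V)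
    (fun i => Sigma.ι (fun _ : Fin r => Coh.structureModule (U : Scheme.{u})) i ≫ φ.inv)
    (fun j => φ.hom ≫ p j) (fun i j => by simp [p]) (by
      rw [← cancel_epi φ.inv, ← cancel_mono φ.hom]
      apply Sigma.hom_ext
      intro j
      simp [p, Preadditive.comp_sum, Preadditive.sum_comp, Finset.sum_ite_eq', ite_comp])
  exact ⟨U, e, hx, he⟩

lemma isIso_restrict_of_stalks {A B : X.Modules} (f : A ⟶ B)
    (h : ∀ x ∈ U, Function.Bijective (stalkLin f x)) :
    IsIso ((Scheme.Modules.restrictFunctor U.ι).map f) := by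
  refine Scheme.Modules.Hom.isIso_iff_isIso_app.mpr fun W => ?_
  rw [ConcreteCategory.isIso_iff_bijective]
  exact TopCat.Presheaf.app_bijective_of_stalkFunctor_map_bijective
    (F := (⟨A.presheaf, A.isSheaf⟩ : TopCat.Sheaf AddCommGrpCat X))
    (G := ⟨B.presheaf, B.isSheaf⟩) ⟨f.mapPresheaf⟩ (U.ι ''ᵁ W)
    fun x hx => h x (U.ι_image_le W hx)

/-- Over an open with a frame of size `r`, tensoring is multiplication by `r`. -/
theorem kcl_tens_sub_mem [IsNoetherian X] {r : ℕ} {e : Fin r → Γ(V, U)}
    (he : LFFrame.IsFrame V U e) {G : X.Modules} (hG : Coh.IsCoh G)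
    (hVG : Coh.IsCoh (tens V G)) {T : Set X} (hT : CohB1.support G ⊆ T) :
    kcl (tens V G) - r • kcl G ∈ clSpan (T \ U) := by
  obtain ⟨hP, hk⟩ := isCoh_pow_and_kcl hG r
  haveI := isIso_restrict_of_stalks (U := U) (cmp G e) fun x hx => stalk_cmp_bijective G he hx
  haveI := isIso_restrict_of_stalks (U := U) (η U (tens V G)) fun x hx =>
    stalk_η_bijective (tens V G) hx
  let θ := (asIso ((Scheme.Modules.restrictFunctor U.ι).map (cmp G e))).trans
    (asIso ((Scheme.Modules.restrictFunctor U.ι).map (η U (tens V G)))).symm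
  haveI : PreservesFiniteColimits (Scheme.Modules.restrictFunctor U.ι) :=
    have := (Scheme.Modules.restrictAdjunction U.ι).leftAdjoint_preservesColimits
    inferInstance
  haveI : (Scheme.Modules.restrictFunctor U.ι).Additive :=
    (Scheme.Modules.restrictAdjunction U.ι).left_adjoint_additive
  have := kcl_sub_mem_of_restrict_iso U.ι hP hVG θ ((support_pow_subset G r).trans hT)
    ((support_tens_subset V G).trans hT)
  rw [hk, Scheme.Opens.range_ι] at this
  have := neg_mem this
  rwa [neg_sub] at this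

end Groth.Agent.CohDev
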