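import Groth.Agent.CohDev.Loc
import Groth.Agent.CohDev.Tensor
import Groth.Agent.S16188

/-!
Dévissage of properties of coherent modules.
-/

universe u

open CategoryTheory Limits AlgebraicGeometry Opposite TopologicalSpace

noncomputable section

namespace Groth.Agent.CohDev

open Groth.Agent.PullStalk.Sky Groth.Agent.PullStalk.Exact Groth.Agent.Props.SubMod
  Groth.Agent.Props.SubSheaf

variable {X : Scheme.{u}} [IsNoetherian X]

/-- `J` is a nonzero coherent submodule of the structure sheaf of the closure of `x`. -/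
def IsPiece (x : X) (J : X.Modules) : Prop :=
  ∃ g : J ⟶ Cyc.closureStructureSheaf x, Mono g ∧ Coh.IsCoh J ∧ x ∈ CohB1.support J

omit [AlgebraicGeometry.IsNoetherian X] in
lemma IsPiece.support_subset {x : X} {J : X.Modules} (h : IsPiece x J) :
    CohB1.support J ⊆ closure {x} := by
  obtain ⟨g, hg, -, -⟩ := h
  exact (support_subset_of_mono g).trans (support_oz_subset x)

lemma exists_isPiece {N : X.Modules} (hN : Coh.IsCoh N) (h : ¬ IsZero N) :
    ∃ (x : X) (J : X.Modules) (f : J ⟶ N), Mono f ∧ IsPiece x J := by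
  obtain ⟨x, J, f, g, hf, hg, hJ, hx⟩ := exists_piece hN h
  exact ⟨x, J, f, hf, g, hg, hJ, hx⟩

/-- A module of length one over a local ring is the residue field. -/
theorem nonempty_equiv_residue {R M : Type u} [CommRing R] [IsLocalRing R] [AddCommGroup M]
    [Module R M] (h : Module.length R M = 1) :
    Nonempty (M ≃ₗ[R] IsLocalRing.ResidueField R) := by
  obtain ⟨I, hI, ⟨e⟩⟩ := isSimpleModule_iff_quot_maximal.mp (Module.length_eq_one_iff.mp h)
  obtain rfl := IsLocalRing.eq_maximalIdeal hI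
  exact ⟨e⟩

lemma IsPiece.stalk_residue {x : X} {J : X.Modules} (h : IsPiece x J) :
    Nonempty (J.presheaf.stalk x ≃ₗ[X.presheaf.stalk x]
      IsLocalRing.ResidueField (X.presheaf.stalk x)) := by
  obtain ⟨g, hg, -, hx⟩ := h
  exact nonempty_equiv_residue
    ((LinearEquiv.ofBijective _ (stalk_piece g hx)).length_eq.trans (length_stalk_oz x))

/-- The submodules `ideal` form of a piece. -/
theorem IsPiece.exists_ideal {x : X} {J : X.Modules} (h : IsPiece x J) :
    IsIntegral (IntMult.ptIdeal x).subscheme ∧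
      ∃ (I : (IntMult.ptIdeal x).subscheme.Modules) (ι : I ⟶ Coh.structureModule _),
        Mono ι ∧ Coh.IsQCoh I ∧ Nonempty (J ≅ (Coh.push (IntMult.ptIdeal x).subschemeι).obj I) := by
  obtain ⟨g, hg, hJ, hx⟩ := h
  refine ⟨S16188.isIntegral_subscheme _ isIrreducible_singleton.closure, ?_⟩
  let i := (IntMult.ptIdeal x).subschemeι
  let adj := Scheme.Modules.pullbackPushforwardAdjunction i
  have hk : Killed i.ker J := by
    rw [Scheme.IdealSheafData.ker_subschemeι]
    exact killed_of_mono g (killed_oz x)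
  let e := unitIsoOfKilled i hk
  let ι : (Scheme.Modules.pullback i).obj J ⟶ Coh.structureModule _ := (adj.homEquiv _ _).symm g
  have hgι : e.hom ≫ (Scheme.Modules.pushforward i).map ι = g :=
    (adj.homEquiv_unit (f := ι)).symm.trans ((adj.homEquiv _ _).apply_symm_apply g)
  haveI hm : Mono ((Scheme.Modules.pushforward i).map ι) := by
    rw [(Iso.eq_inv_comp e).mpr hgι]
    exact mono_comp e.inv g
  haveI : (Scheme.Modules.pushforward i).Faithful :=
    { map_injective := fun {M N f g} h => by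
        refine Scheme.Modules.hom_ext _ _ fun W => ?_
        obtain ⟨O, hO, hOW⟩ := i.isClosedEmbedding.isInducing.isOpen_iff.mp W.isOpen
        obtain rfl : i ⁻¹ᵁ ⟨O, hO⟩ = W := TopologicalSpace.Opens.ext hOW
        exact congrArg (fun t => t.app ⟨O, hO⟩) h }
  exact ⟨_, ι, (Scheme.Modules.pushforward i).mono_of_mono_map hm,
    (ZClosLib.CohDescent.isCoh_pullback i J hJ).1, ⟨e⟩⟩

/-- Induction inside a closed set, by extensions. -/
theorem devissage_on (T : Set X) (P : X.Modules → Prop) (h0 : ∀ M, IsZero M → P M)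
    (hext : ∀ S : ShortComplex X.Modules, S.ShortExact → Coh.IsCoh S.X₁ → Coh.IsCoh S.X₂ →
      Coh.IsCoh S.X₃ → CohB1.support S.X₂ ⊆ T → P S.X₁ → P S.X₃ → P S.X₂)
    (hstep : ∀ x ∈ T, ∀ J, IsPiece x J → CohB1.support J ⊆ T → P J)
    {M : X.Modules} (hM : Coh.IsCoh M) (hs : CohB1.support M ⊆ T) : P M := by
  revert hs
  refine devissage (fun M ↦ CohB1.support M ⊆ T → P M) (fun M hM _ ↦ h0 M hM)
    (fun S hS h₁ h₂ h₃ p₁ p₃ hs ↦ ?_) (fun M hM hz ↦ ?_) hM
  · haveI := hS.mono_f
    haveI := hS.epi_g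
    exact hext S hS h₁ h₂ h₃ hs (p₁ ((support_subset_of_mono S.f).trans hs))
      (p₃ ((support_subset_of_epi S.g).trans hs))
  · obtain ⟨x, J, f, hf, hJ⟩ := exists_isPiece hM hz
    have hJ' := hJ
    obtain ⟨-, -, hJc, hx⟩ := hJ'
    exact ⟨J, f, hf, hJc, fun h ↦ hx (AddCommGrpCat.subsingleton_of_isZero
      ((Scheme.Modules.toPresheaf X ⋙ TopCat.Presheaf.stalkFunctor AddCommGrpCat.{u} x).map_isZero h)),
      fun hs ↦ hstep x (hs hx) J hJ hs⟩

/-- Coherent modules with isomorphic stalks at a point are linked by a roof bijective there. -/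
theorem exists_roof_at {M N : X.Modules} (hM : Coh.IsCoh M) (hN : Coh.IsCoh N) (x : X)
    (θ : M.presheaf.stalk x ≃ₗ[X.presheaf.stalk x] N.presheaf.stalk x) :
    ∃ (H : X.Modules) (a : H ⟶ M) (b : H ⟶ N), Coh.IsCoh H ∧ Mono (biprod.lift a b) ∧
      Function.Bijective (stalkLin a x) ∧ Function.Bijective (stalkLin b x) := by
  classical
  haveI : M.IsQuasicoherent := hM.1
  haveI : N.IsQuasicoherent := hN.1
  obtain ⟨V, hV, hx, -⟩ := exists_isAffineOpen_mem_and_subset (X := X) (Opens.mem_top x)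
  obtain ⟨G, hG⟩ := (finite_sections hM hV).fg_top
  choose n s hs hsn using fun m : Γ(M, V) ↦
    CycLib.exists_smul_germ_eq N hV hx (θ (germM M V x hx m))
  let B := M ⊞ N
  haveI : B.IsQuasicoherent := (isCoh_biprod hM hN).1
  let e : Γ(M, V) → Γ(B, V) := fun m ↦
    (biprod.inl : M ⟶ B).app V (s m • m) + (biprod.inr : N ⟶ B).app V (n m)
  let T : Finset Γ(B, V) := G.image e
  let S₀ : StalkSub B := fun y ↦ if hy : y ∈ V then spanGerm (T : Set Γ(B, V)) y hy else ⊥
  have hS₀ : GenBy S₀ V (T : Set Γ(B, V)) := fun y hy ↦ dif_pos hy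
  obtain ⟨S, hS, hSV, -⟩ := exists_global hV.isCompact
    (show FTOn S₀ V from fun y hy ↦ ⟨V, hV, hy, le_rfl, T, hS₀⟩)
  let i₁ := stalkLin (biprod.inl : M ⟶ B) x
  let i₂ := stalkLin (biprod.inr : N ⟶ B) x
  let gr : M.presheaf.stalk x →ₗ[X.presheaf.stalk x] B.presheaf.stalk x := i₁ + i₂ ∘ₗ θ.toLinearMap
  have he : ∀ m, germM B V x hx (e m) = X.presheaf.germ V x hx (s m) • gr (germM M V x hx m) := by
    intro m
    have h1 : germM B V x hx (e m) =
        i₁ (germM M V x hx (s m • m)) + i₂ (germM N V x hx (n m)) := by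
      simp only [i₁, i₂]
      rw [stalkLin_germ, stalkLin_germ]
      exact map_add (B.presheaf.germ V x hx).hom _ _
    rw [h1, germM_smul, map_smul, ← hsn, map_smul, ← smul_add]
    rfl
  have hgen : Submodule.span (X.presheaf.stalk x)
      ((fun m ↦ germM M V x hx m) '' (G : Set Γ(M, V))) = ⊤ := by
    rw [eq_top_iff]
    intro t _
    obtain ⟨m, r, hr, hrt⟩ := CycLib.exists_smul_germ_eq M hV hx t
    obtain ⟨u, hu⟩ := hr
    have := Submodule.smul_mem _ (↑u⁻¹ : X.presheaf.stalk x)
      (germ_mem_spanGerm_of_mem_span (show m ∈ Submodule.span Γ(X, V) (G : Set Γ(M, V)) from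
        hG ▸ Submodule.mem_top) x hx)
    rwa [← hrt, ← hu, smul_smul, u.inv_mul, one_smul] at this
  have hSx : S x = LinearMap.range gr := by
    rw [hSV x hx, hS₀ x hx, spanGerm]
    refine le_antisymm (Submodule.span_le.mpr ?_) ?_
    · rintro _ ⟨t, ht, rfl⟩
      obtain ⟨m, -, rfl⟩ := Finset.mem_image.mp ht
      rw [SetLike.mem_coe, show (fun m ↦ germM B V x hx m) (e m) = _ from he m]
      exact Submodule.smul_mem _ _ (LinearMap.mem_range_self _ _)
    · rw [LinearMap.range_eq_map, ← hgen, Submodule.map_span, Submodule.span_le]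
      rintro _ ⟨_, ⟨m, hm, rfl⟩, rfl⟩
      obtain ⟨u, hu⟩ := hs m
      have hmem : germM B V x hx (e m) ∈ Submodule.span (X.presheaf.stalk x)
          ((fun m ↦ germM B V x hx m) '' (T : Set Γ(B, V))) :=
        Submodule.subset_span ⟨e m, Finset.mem_image_of_mem e hm, rfl⟩
      rw [he, ← hu] at hmem
      have := Submodule.smul_mem _ (↑u⁻¹ : X.presheaf.stalk x) hmem
      rwa [smul_smul, u.inv_mul, one_smul] at this
  have hrange : ∀ k, stalkLin (incl S) x k ∈ S x := fun k ↦ by
    obtain ⟨W, hxW, w, rfl⟩ := exists_germM_eq _ x k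
    rw [stalkLin_germ]
    exact (mem_range_incl S _).mp ⟨w, rfl⟩ x hxW
  have hsurj : ∀ v ∈ S x, ∃ k, stalkLin (incl S) x k = v := fun v hv ↦ by
    rw [hSV x hx, hS₀ x hx] at hv
    refine (Submodule.span_le (p := LinearMap.range (stalkLin (incl S) x))).mpr ?_ hv
    rintro _ ⟨t, ht, rfl⟩
    obtain ⟨w, hw⟩ := (mem_range_incl S t).mpr fun y hy ↦ by
      rw [hSV y hy, hS₀ y hy]; exact Submodule.subset_span ⟨t, ht, rfl⟩
    exact ⟨germM _ V x hx w, (stalkLin_germ _ V x hx w).trans (congrArg _ hw)⟩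
  have h11 : ∀ w, stalkLin (biprod.fst : B ⟶ M) x (gr w) = w := fun w ↦ by
    simp only [gr, i₁, i₂, LinearMap.add_apply, LinearMap.comp_apply, map_add]
    rw [← stalkLin_comp_apply, ← stalkLin_comp_apply, biprod.inl_fst, biprod.inr_fst,
      stalkLin_id_apply, stalkLin_zero_apply, add_zero]
  have h22 : ∀ w, stalkLin (biprod.snd : B ⟶ N) x (gr w) = θ w := fun w ↦ by
    simp only [gr, i₁, i₂, LinearMap.add_apply, LinearMap.comp_apply, map_add]
    rw [← stalkLin_comp_apply, ← stalkLin_comp_apply, biprod.inl_snd, biprod.inr_snd,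
      stalkLin_id_apply, stalkLin_zero_apply, zero_add]
    rfl
  have key : ∀ {C : X.Modules} (q : B ⟶ C) (ψ : M.presheaf.stalk x → C.presheaf.stalk x),
      Function.Bijective ψ → (∀ w, stalkLin q x (gr w) = ψ w) →
      Function.Bijective (stalkLin (incl S ≫ q) x) := by
    intro C q ψ hψ hq
    refine ⟨fun k k' h ↦ ?_, fun c ↦ ?_⟩
    · obtain ⟨w, hw⟩ : stalkLin (incl S) x k ∈ LinearMap.range gr := hSx ▸ hrange k
      obtain ⟨w', hw'⟩ : stalkLin (incl S) x k' ∈ LinearMap.range gr := hSx ▸ hrange k'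
      rw [stalkLin_comp_apply, stalkLin_comp_apply, ← hw, ← hw', hq, hq] at h
      exact stalk_injective (incl S) x (by rw [← hw, ← hw', hψ.1 h])
    · obtain ⟨w, rfl⟩ := hψ.2 c
      obtain ⟨k, hk⟩ := hsurj (gr w) (hSx ▸ LinearMap.mem_range_self gr w)
      exact ⟨k, by rw [stalkLin_comp_apply, hk, hq]⟩
  refine ⟨sub S, incl S ≫ biprod.fst, incl S ≫ biprod.snd,
    ⟨isQuasicoherent_sub hS, isFiniteType_sub hS⟩, ?_,
    key _ id Function.bijective_id h11, key _ θ θ.bijective h22⟩
  rw [show biprod.lift (incl S ≫ biprod.fst) (incl S ≫ biprod.snd) = incl S from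
    biprod.hom_ext _ _ (by simp) (by simp)]
  infer_instance

/-- The image factorisation as two short exact sequences. -/
theorem exists_image {A B : X.Modules} (f : A ⟶ B) (hA : Coh.IsCoh A) (hB : Coh.IsCoh B) :
    ∃ (I : X.Modules) (p : A ⟶ I) (q : I ⟶ B) (w₁ : kernel.ι f ≫ p = 0)
      (w₂ : q ≫ cokernel.π f = 0),
      Coh.IsCoh I ∧ (ShortComplex.mk (kernel.ι f) p w₁).ShortExact ∧
        (ShortComplex.mk q (cokernel.π f) w₂).ShortExact := by
  refine ⟨Abelian.image f, Abelian.factorThruImage f, Abelian.image.ι f,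
    (by rw [← cancel_mono (Abelian.image.ι f), Category.assoc, Abelian.image.fac, kernel.condition,
      zero_comp]), kernel.condition _, isCoh_image f hA hB.1, ?_, ?_⟩
  · exact
      { exact := by
          refine ShortComplex.exact_of_f_is_kernel _ (KernelFork.IsLimit.ofι _ _ (fun {W} k hk ↦
            kernel.lift f k ?_) (fun k hk ↦ kernel.lift_ι _ _ _) fun k hk m hm ↦ ?_)
          · rw [← Abelian.image.fac f, reassoc_of% hk, zero_comp]
          · rw [← cancel_mono (kernel.ι f), kernel.lift_ι]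
            exact hm
        mono_f := inferInstanceAs (Mono (kernel.ι f))
        epi_g := inferInstanceAs (Epi (Abelian.factorThruImage f)) }
  · exact
      { exact := ShortComplex.exact_of_f_is_kernel _ (kernelIsKernel _)
        mono_f := inferInstanceAs (Mono (Abelian.image.ι f))
        epi_g := inferInstanceAs (Epi (cokernel.π f)) }

/-- Two out of three inside `T`. -/
def TwoOfThree (T : Set X) (P : X.Modules → Prop) : Prop :=
  ∀ S : ShortComplex X.Modules, S.ShortExact → Coh.IsCoh S.X₁ → Coh.IsCoh S.X₂ → Coh.IsCoh S.X₃ →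
    CohB1.support S.X₂ ⊆ T →
    (P S.X₁ → P S.X₂ → P S.X₃) ∧ (P S.X₁ → P S.X₃ → P S.X₂) ∧ (P S.X₂ → P S.X₃ → P S.X₁)

/-- Along a map bijective at `x`, with all coherent modules missing `x` in `P`. -/
theorem iff_of_map {T : Set X} {P : X.Modules → Prop} (h : TwoOfThree T P) {x : X}
    (hsmall : ∀ M, Coh.IsCoh M → CohB1.support M ⊆ T → x ∉ CohB1.support M → P M)
    {A B : X.Modules} (f : A ⟶ B) (hA : Coh.IsCoh A) (hB : Coh.IsCoh B)
    (hTA : CohB1.support A ⊆ T) (hTB : CohB1.support B ⊆ T)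
    (hf : Function.Bijective (stalkLin f x)) : P A ↔ P B := by
  obtain ⟨I, p, q, w₁, w₂, hI, hS₁, hS₂⟩ := exists_image f hA hB
  have hK := isCoh_kernel' f hA hB
  have hC := isCoh_cokernel f hA.1 hB
  have hPK : P (kernel f) := hsmall _ hK ((support_subset_of_mono (kernel.ι f)).trans hTA)
    (not_mem_support_kernel f hf.1)
  have hPC : P (cokernel f) := hsmall _ hC ((support_subset_of_epi (cokernel.π f)).trans hTB)
    (not_mem_support_cokernel f hf.2)
  obtain ⟨a, b, -⟩ := h _ hS₁ hK hA hI hTA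
  obtain ⟨-, c, d⟩ := h _ hS₂ hI hB hC hTB
  exact ⟨fun hPA ↦ c (a hPK hPA) hPC, fun hPB ↦ b hPK (d hPB hPC)⟩

/-- Two out of three, with the pieces treated by induction on their supports. -/
theorem devissage_two {T : Set X} (hT : IsClosed T) {P : X.Modules → Prop} (h0 : ∀ M, IsZero M → P M)
    (h : TwoOfThree T P)
    (hstep : ∀ x ∈ T, ∀ J, IsPiece x J →
      (∀ M, Coh.IsCoh M → CohB1.support M ⊆ closure {x} → x ∉ CohB1.support M → P M) → P J)
    {M : X.Modules} (hM : Coh.IsCoh M) (hs : CohB1.support M ⊆ T) : P M := by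
  haveI : NoetherianSpace X := inferInstance
  suffices H : ∀ Z : Closeds X, (Z : Set X) ⊆ T → ∀ {M : X.Modules}, Coh.IsCoh M →
      CohB1.support M ⊆ Z → P M from H ⟨T, hT⟩ subset_rfl hM hs
  intro Z
  induction Z using WellFoundedLT.induction with
  | _ Z IH =>
    intro hZ M hM hs
    refine devissage_on (Z : Set X) P h0
      (fun S hS h₁ h₂ h₃ hsS ↦ (h S hS h₁ h₂ h₃ (hsS.trans hZ)).2.1) (fun x hx J hJ _ ↦ ?_) hM hs
    refine hstep x (hZ hx) J hJ fun N hN hNs hxN ↦ ?_
    let Z' : Closeds X := ⟨CohB1.support N, isClosed_support hN⟩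
    have hle : closure ({x} : Set X) ⊆ Z :=
      closure_minimal (Set.singleton_subset_iff.mpr hx) Z.isClosed
    exact IH Z' (lt_of_le_of_ne (hNs.trans hle) fun e ↦ hxN (show x ∈ (Z' : Set X) by rw [e]; exact hx))
      ((hNs.trans hle).trans hZ) hN subset_rfl

/-- Transfer to a piece from a module with the same stalk at the point. -/
theorem piece_of_model {T : Set X} {P : X.Modules → Prop} (h : TwoOfThree T P) {x : X}
    (hxT : closure ({x} : Set X) ⊆ T)
    (hsmall : ∀ M, Coh.IsCoh M → CohB1.support M ⊆ closure {x} → x ∉ CohB1.support M → P M)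
    {G M : X.Modules} (hG : Coh.IsCoh G) (hM : Coh.IsCoh M)
    (hGs : CohB1.support G ⊆ closure {x}) (hMs : CohB1.support M ⊆ closure {x})
    (θ : G.presheaf.stalk x ≃ₗ[X.presheaf.stalk x] M.presheaf.stalk x) (hPG : P G) : P M := by
  obtain ⟨H, a, b, hH, hm, ha, hb⟩ := exists_roof_at hG hM x θ
  have hHs : CohB1.support H ⊆ closure {x} := (support_subset_of_mono (biprod.lift a b)).trans
    ((support_biprod_subset G M).trans (Set.union_subset hGs hMs))
  have h' : TwoOfThree (closure ({x} : Set X)) P := fun S hS h₁ h₂ h₃ hs ↦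
    h S hS h₁ h₂ h₃ (hs.trans hxT)
  exact (iff_of_map h' hsmall b hH hM hHs hMs hb).mp
    ((iff_of_map h' hsmall a hH hG hHs hGs ha).mpr hPG)

/-- A finite-dimensional stalk killed by the maximal ideal is a power of the residue field. -/
theorem exists_equiv_pow_residue {R M : Type u} [CommRing R] [IsLocalRing R] [AddCommGroup M]
    [Module R M] [Module.Finite R M]
    (h : ∀ r ∈ IsLocalRing.maximalIdeal R, ∀ m : M, r • m = 0) :
    ∃ d, Nonempty (M ≃ₗ[R] (Fin d → IsLocalRing.ResidueField R)) := by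
  letI : Module (IsLocalRing.ResidueField R) M :=
    Module.IsTorsionBySet.module (I := IsLocalRing.maximalIdeal R) fun m a ↦ h a.1 a.2 m
  haveI : IsScalarTower R (IsLocalRing.ResidueField R) M :=
    IsScalarTower.of_algebraMap_smul fun r m ↦ rfl
  haveI : Module.Finite (IsLocalRing.ResidueField R) M := Module.Finite.of_restrictScalars_finite R _ _
  exact ⟨_, ⟨(Module.finBasis (IsLocalRing.ResidueField R) M).equivFun.restrictScalars R⟩⟩

/-- The stalk of `pow J d` is the product of the stalks. -/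
def powStalkEquiv (J : X.Modules) (d : ℕ) (x : X) :
    (pow J d).presheaf.stalk x ≃ₗ[X.presheaf.stalk x] (Fin d → J.presheaf.stalk x) :=
  LinearEquiv.ofBijective
    (LinearMap.pi fun i ↦ stalkLin (biproduct.π (fun _ : Fin d => J) i) x) <| by
    constructor
    · rw [injective_iff_map_eq_zero]
      intro k hk
      rw [← stalkLin_id_apply x k, ← biproduct.total, stalkLin_sum_apply]
      refine Finset.sum_eq_zero fun i _ => ?_
      rw [stalkLin_comp_apply,
        show stalkLin (biproduct.π (fun _ : Fin d => J) i) x k = 0 from congrFun hk i]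
      exact map_zero _
    · intro c
      refine ⟨∑ i, stalkLin (biproduct.ι (fun _ : Fin d => J) i) x (c i), funext fun i => ?_⟩
      rw [LinearMap.pi_apply, map_sum, Finset.sum_eq_single i]
      · rw [← stalkLin_comp_apply, biproduct.ι_π_self, stalkLin_id_apply]
      · intro j _ hj
        rw [← stalkLin_comp_apply, biproduct.ι_π_ne _ hj, stalkLin_zero_apply]
      · simp

end Groth.Agent.CohDev
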