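import Groth.Agent.CohDev.K0
import Mathlib.Topology.KrullDimension

/-!
Dimensions of supports.
-/

universe u

open CategoryTheory Limits AlgebraicGeometry TopologicalSpace Order

noncomputable section

namespace Groth.Agent.CohDev

lemma dim_mono {T : Type u} [TopologicalSpace T] {A B : Set T} (h : A ⊆ B) :
    topologicalKrullDim ↥A ≤ topologicalKrullDim ↥B :=
  (Topology.IsEmbedding.inclusion h).isInducing.topologicalKrullDim_le

lemma dim_lt_of_irreducible {T : Type u} [TopologicalSpace T] {W C : Set T} (hW : IsClosed W)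
    (hC : IsIrreducible C) (h : W ⊆ C) (hne : ¬ C ⊆ W) {n : ℕ} (hn : topologicalKrullDim ↥C ≤ n) :
    topologicalKrullDim ↥W < n := by
  by_contra hcon
  obtain ⟨l, hl⟩ := le_krullDim_iff.mp (not_lt.mp hcon)
  let φ := Topology.IsEmbedding.inclusion h
  let l' : LTSeries (IrreducibleCloseds ↥C) :=
    l.map _ (IrreducibleCloseds.map_strictMono_of_isInducing φ.isInducing)
  haveI : IrreducibleSpace ↥C := Subtype.irreducibleSpace hC
  let top : IrreducibleCloseds ↥C := ⟨Set.univ, IrreducibleSpace.isIrreducible_univ _, isClosed_univ⟩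
  have hlt : l'.last < top := by
    refine lt_of_le_of_ne (fun x _ ↦ trivial) fun e ↦ hne fun y hy ↦ ?_
    have hy' : (⟨y, hy⟩ : ↥C) ∈ (l'.last : Set ↥C) := by rw [e]; trivial
    have hclosed : IsClosed {z : ↥C | (z : T) ∈ W} := hW.preimage continuous_subtype_val
    refine closure_minimal ?_ hclosed hy'
    rintro _ ⟨z, -, rfl⟩
    exact z.2
  have h1 := (LTSeries.length_le_krullDim (l'.snoc top hlt)).trans hn
  simp only [RelSeries.snoc_length] at h1
  rw [show l'.length = n from hl] at h1
  exact Nat.not_succ_le_self n (by exact_mod_cast h1)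

variable {X : Scheme.{u}}

lemma dim_closure_lt {x y : X} (h : y ∈ closure ({x} : Set X)) (hne : y ≠ x) {n : ℕ}
    (hn : topologicalKrullDim ↥(closure ({x} : Set X)) ≤ n) :
    topologicalKrullDim ↥(closure ({y} : Set X)) < n :=
  dim_lt_of_irreducible isClosed_closure isIrreducible_singleton.closure
    (closure_minimal (Set.singleton_subset_iff.mpr h) isClosed_closure)
    (fun hs ↦ hne (((specializes_iff_mem_closure.mpr (hs (subset_closure rfl))).antisymm
      (specializes_iff_mem_closure.mpr h)).eq)) hn

end Groth.Agent.CohDev
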