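import Groth.Agent.CohDev.Gen
import Groth.Agent.CohDev.Dim
import Groth.Agent.KFlat.StalkFlat
import Groth.Agent.KFlat.Tensor
import Groth.Agent.KFlat.TensorLocFree
import Mathlib.RingTheory.Flat.Basic

/-!
Tensoring with a finite locally free module: coherence and exactness.
-/

universe u

open CategoryTheory Limits AlgebraicGeometry Opposite TopologicalSpace
open scoped TensorProduct MonoidalCategory
open MonoidalCategory

noncomputable section

namespace Groth.Agent.CohDev

open Groth.Agent.PullStalk.Sky Groth.Agent.PullStalk.Exact Groth.Agent.KFlat.StalkTensor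

variable {X : Scheme.{u}} {V : X.Modules} {r : ℕ} (hV : FlatMod.IsFinLocFreeOfRank r V)

include hV in
lemma free_stalk_of_rank (x : X) :
    Module.Free (X.presheaf.stalk x) (V.presheaf.stalk x) := by
  obtain ⟨U, e, hx, he⟩ := exists_frame hV x
  exact .of_basis (Module.Basis.ofEquivFun (LinearEquiv.ofBijective (LFFrame.stalkComb V e x hx)
    (he.stalkComb_bijective x hx)).symm)

include hV in
lemma mono_tens_map {A B : X.Modules} (f : A ⟶ B) [Mono f] :
    Mono (((DCoh.tensorBi (X := X)).obj V).map f) := by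
  refine KFlat.StalkTensor.mono_of_stalk_injective _ fun y => ?_
  haveI := free_stalk_of_rank hV y
  haveI : Module.Flat (X.presheaf.stalk y) ((DerSch.stalkFunctor X y).obj V) := by
    haveI : Module.Free (X.presheaf.stalk y) ((DerSch.stalkFunctor X y).obj V) :=
      free_stalk_of_rank hV y
    exact Module.Flat.of_free
  have h := KFlat.StalkCx.stIso_right y V f
  have hinj : Function.Injective
      (((DerSch.stalkFunctor X y).obj V ◁ (DerSch.stalkFunctor X y).map f :
        _ ⟶ (DerSch.stalkFunctor X y).obj V ⊗ (DerSch.stalkFunctor X y).obj B)).hom :=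
    Module.Flat.lTensor_preserves_injective_linearMap (M := ((DerSch.stalkFunctor X y).obj V)) _
      (KFlat.StalkTensor.stalk_map_injective y f)
  intro a b hab
  have ha := LinearMap.congr_fun (congrArg ModuleCat.Hom.hom h) a
  have hb := LinearMap.congr_fun (congrArg ModuleCat.Hom.hom h) b
  refine (KFlat.StalkCx.stIso y V A).toLinearEquiv.injective (hinj ?_)
  exact ha.symm.trans ((congrArg (KFlat.StalkCx.stIso y V B).hom.hom hab).trans hb)

include hV in
theorem tens_shortExact {S : ShortComplex X.Modules} (hS : S.ShortExact) :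
    (S.map ((DCoh.tensorBi (X := X)).obj V)).ShortExact := by
  let F := (DCoh.tensorBi (X := X)).obj V
  haveI : PreservesColimitsOfSize.{0, 0} F := KFlat.TensorLocFree.preservesColimits_tensorBi_obj V
  haveI := hS.mono_f
  haveI := hS.epi_g
  haveI : PreservesFiniteColimits F := PreservesColimitsOfSize.preservesFiniteColimits F
  exact
    { exact := ShortComplex.exact_of_g_is_cokernel _
        (CokernelCofork.mapIsColimit (CokernelCofork.ofπ S.g S.zero) hS.gIsCokernel F)
      mono_f := mono_tens_map hV S.f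
      epi_g := inferInstanceAs (Epi (F.map S.g)) }

include hV in
theorem isCoh_tens [IsNoetherian X] {G : X.Modules} (hG : Coh.IsCoh G) : Coh.IsCoh (tens V G) := by
  choose U e hx he using exists_frame hV
  have hP := (isCoh_pow_and_kcl hG r).1
  haveI : (pow G r).IsQuasicoherent := hP.1
  have hθ : ∀ x, Nonempty ((Scheme.Modules.restrictFunctor (U x).ι).obj (pow G r) ≅
      (Scheme.Modules.restrictFunctor (U x).ι).obj (tens V G)) := fun x => by
    haveI := isIso_restrict_of_stalks (U := U x) (cmp G (e x)) fun y hy => stalk_cmp_bijective G (he x) hy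
    haveI := isIso_restrict_of_stalks (U := U x) (η (U x) (tens V G)) fun y hy =>
      stalk_η_bijective (tens V G) hy
    exact ⟨(asIso ((Scheme.Modules.restrictFunctor (U x).ι).map (cmp G (e x)))).trans
      (asIso ((Scheme.Modules.restrictFunctor (U x).ι).map (η (U x) (tens V G)))).symm⟩
  have hq : (tens V G).IsQuasicoherent := by
    haveI : ∀ x, ((tens V G).restrict (U x).ι).IsQuasicoherent := fun x => by
      haveI := Scheme.Modules.isQuasicoherent_restrictFunctor (U x).ι (pow G r)
      exact QCoh.isQuasicoherent_of_iso (hθ x).some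
    exact QCoh.isQuasicoherent_of_isOpenCover (tens V G) U
      (TopologicalSpace.IsOpenCover.mk (eq_top_iff.mpr fun x _ => Opens.mem_iSup.mpr ⟨x, hx x⟩))
  refine ⟨hq, @QCoh.isFiniteType_of_forall_exists _ (tens V G) hq fun x => ?_⟩
  obtain ⟨_, ⟨W, hW, rfl⟩, hxW, hWU⟩ :=
    X.isBasis_affineOpens.exists_subset_of_mem_open (hx x) (U x).isOpen
  have hW : IsAffineOpen W := hW
  refine ⟨W, hW, hxW, ?_⟩
  have := finite_sections hP hW
  have hbij : ∀ {A B : X.Modules} (f : A ⟶ B), (∀ y ∈ U x, Function.Bijective (stalkLin f y)) →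
      Function.Bijective (appLin f W) := fun {A B} f h =>
    TopCat.Presheaf.app_bijective_of_stalkFunctor_map_bijective
      (F := (⟨A.presheaf, A.isSheaf⟩ : TopCat.Sheaf AddCommGrpCat X))
      (G := ⟨B.presheaf, B.isSheaf⟩) ⟨f.mapPresheaf⟩ W fun y hy => h y (hWU hy)
  have h1 := hbij (cmp G (e x)) fun y hy => stalk_cmp_bijective G (he x) hy
  have h2 := hbij (η (U x) (tens V G)) fun y hy => stalk_η_bijective (tens V G) hy
  exact Module.Finite.equiv ((LinearEquiv.ofBijective _ h1).trans (LinearEquiv.ofBijective _ h2).symm)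

include hV in
theorem kcl_tens_sub_mem_filt [IsNoetherian X] {F : X.Modules} (hF : Coh.IsCoh F) (n : ℕ)
    (hn : topologicalKrullDim ↥(CohB1.support F) ≤ n) :
    kcl (tens V F) - r • kcl F ∈ AddSubgroup.closure {c : SGA6.Kcoh X |
      ∃ G : X.Modules, Coh.IsCoh G ∧ topologicalKrullDim ↥(CohB1.support G) < n ∧ c = kcl G} := by
  revert hn
  refine devissage (fun F => topologicalKrullDim ↥(CohB1.support F) ≤ n →
    kcl (tens V F) - r • kcl F ∈ AddSubgroup.closure {c : SGA6.Kcoh X |
      ∃ G : X.Modules, Coh.IsCoh G ∧ topologicalKrullDim ↥(CohB1.support G) < n ∧ c = kcl G})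
    (fun M hM _ => ?_) (fun S hS h₁ h₂ h₃ p₁ p₃ hd => ?_) (fun M hM hz => ?_) hF
  · have hz : IsZero (tens V M) := isZero_of_support_eq_empty (Set.subset_empty_iff.mp
      ((support_tens_subset V M).trans fun x hx => hx (AddCommGrpCat.subsingleton_of_isZero
        ((Scheme.Modules.toPresheaf X ⋙ TopCat.Presheaf.stalkFunctor AddCommGrpCat.{u} x).map_isZero hM))))
    rw [kcl_of_isZero hz, kcl_of_isZero hM, smul_zero, sub_zero]
    exact zero_mem _
  · haveI := hS.mono_f
    haveI := hS.epi_g
    have e : kcl (tens V S.X₂) = kcl (tens V S.X₁) + kcl (tens V S.X₃) :=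
      kcl_add (tens_shortExact hV hS) (isCoh_tens hV h₁) (isCoh_tens hV h₂) (isCoh_tens hV h₃)
    rw [e, kcl_add hS h₁ h₂ h₃, smul_add, add_sub_add_comm]
    exact add_mem (p₁ ((dim_mono (support_subset_of_mono S.f)).trans hd))
      (p₃ ((dim_mono (support_subset_of_epi S.g)).trans hd))
  · obtain ⟨x, J, f, hf, hJ⟩ := exists_isPiece hM hz
    have hJs := hJ.support_subset
    obtain ⟨-, -, hJc, hx⟩ := hJ
    refine ⟨J, f, hf, hJc, fun h => hx (AddCommGrpCat.subsingleton_of_isZero
      ((Scheme.Modules.toPresheaf X ⋙ TopCat.Presheaf.stalkFunctor AddCommGrpCat.{u} x).map_isZero h)),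
      fun hd => ?_⟩
    have hxn : topologicalKrullDim ↥(closure ({x} : Set X)) ≤ n :=
      (dim_mono (closure_minimal (Set.singleton_subset_iff.mpr hx) (isClosed_support hJc))).trans hd
    obtain ⟨U, e, hxU, he⟩ := exists_frame hV x
    refine (AddSubgroup.closure_mono ?_) (kcl_tens_sub_mem he hJc (isCoh_tens hV hJc) hJs)
    rintro c ⟨G, hG, hs, rfl⟩
    refine ⟨G, hG, ?_, rfl⟩
    refine dim_lt_of_irreducible (isClosed_support hG) isIrreducible_singleton.closure
      (hs.trans Set.diff_subset) (fun h => (hs (h (subset_closure rfl))).2 hxU) hxn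

end Groth.Agent.CohDev
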