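import Groth.Agent.Props.SubExt
import Groth.Agent.PullStalk.Exact
import Groth.Agent.CycLib.ModStalk
import Groth.Agent.ScSupp.Basic
import Groth.Prelude.Def_CohB1
import Mathlib.AlgebraicGeometry.Noetherian

/-!
Coherent modules on a Noetherian scheme: closure properties and supports.
-/

universe u

open CategoryTheory Limits AlgebraicGeometry Opposite TopologicalSpace

noncomputable section

namespace Groth.Agent.CohDev

open Groth.Agent.PullStalk.Sky Groth.Agent.PullStalk.Exact

variable {X : Scheme.{u}}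

/-- A morphism on sections, as a linear map. -/
def appLin {M N : X.Modules} (f : M ⟶ N) (U : X.Opens) : Γ(M, U) →ₗ[Γ(X, U)] Γ(N, U) where
  toFun := f.app U
  map_add' := map_add _
  map_smul' r a := Scheme.Modules.Hom.app_smul f r a

lemma finite_sections {M : X.Modules} (h : Coh.IsCoh M) {U : X.Opens} (hU : IsAffineOpen U) :
    Module.Finite Γ(X, U) Γ(M, U) :=
  @QCoh.finite_sections_of_isFiniteType X M h.1 h.2 U hU

theorem isCoh_of_mono [IsLocallyNoetherian X] {A B : X.Modules} (f : A ⟶ B) [Mono f]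
    (hA : Coh.IsQCoh A) (hB : Coh.IsCoh B) : Coh.IsCoh A := by
  refine ⟨hA, (@QCoh.isFiniteType_iff X A hA).mpr fun U hU ↦ ?_⟩
  have := IsLocallyNoetherian.component_noetherian ⟨U, hU⟩
  have := finite_sections hB hU
  exact Module.Finite.of_injective (appLin f U) (QCoh.app_injective_of_mono f U)

theorem isCoh_of_epi {A B : X.Modules} (f : A ⟶ B) [Epi f]
    (hA : Coh.IsCoh A) (hB : Coh.IsQCoh B) : Coh.IsCoh B := by
  refine ⟨hB, (@QCoh.isFiniteType_iff X B hB).mpr fun U hU ↦ ?_⟩
  have := finite_sections hA hU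
  exact Module.Finite.of_surjective (appLin f U) (@QCoh.app_surjective_of_epi X A B f _ hA.1 hB U hU)

theorem isCoh_of_iso {A B : X.Modules} (e : A ≅ B) (hA : Coh.IsCoh A) : Coh.IsCoh B :=
  isCoh_of_epi e.hom hA (@QCoh.isQuasicoherent_of_iso X _ _ e hA.1)

theorem isCoh_kernel [IsLocallyNoetherian X] {A B : X.Modules} (f : A ⟶ B) (hA : Coh.IsCoh A)
    (hB : Coh.IsQCoh B) : Coh.IsCoh (kernel f) :=
  isCoh_of_mono (kernel.ι f) (@QCoh.isQuasicoherent_kernel X A B f hA.1 hB) hA

theorem isCoh_cokernel {A B : X.Modules} (f : A ⟶ B) (hA : Coh.IsQCoh A)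
    (hB : Coh.IsCoh B) : Coh.IsCoh (cokernel f) :=
  isCoh_of_epi (cokernel.π f) hB (@QCoh.isQuasicoherent_cokernel X A B f hA hB.1)

theorem isCoh_image [IsLocallyNoetherian X] {A B : X.Modules} (f : A ⟶ B) (hA : Coh.IsCoh A)
    (hB : Coh.IsQCoh B) : Coh.IsCoh (Abelian.image f) :=
  isCoh_of_epi (Abelian.factorThruImage f) hA (@QCoh.isQuasicoherent_image X A B f hA.1 hB)

theorem isQCoh_biprod {A B : X.Modules} (hA : Coh.IsQCoh A) (hB : Coh.IsQCoh B) :
    Coh.IsQCoh (A ⊞ B) :=
  @Props.SubExt.isQuasicoherent_biprod X A B hA hB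

theorem isCoh_of_shortExact {S : ShortComplex X.Modules} (hS : S.ShortExact)
    (h₁ : Coh.IsCoh S.X₁) (h₃ : Coh.IsCoh S.X₃) : Coh.IsCoh S.X₂ := by
  have hq : Coh.IsQCoh S.X₂ := @QCoh.isQuasicoherent_X₂ X S hS h₁.1 h₃.1
  refine ⟨hq, (@QCoh.isFiniteType_iff X S.X₂ hq).mpr fun U hU ↦ ?_⟩
  have := finite_sections h₁ hU
  have := finite_sections h₃ hU
  have := hS.mono_f
  have hex : Function.Exact (appLin S.f U) (appLin S.g U) := fun x ↦
    ⟨fun hx ↦ QCoh.exists_app_eq_of_app_eq_zero S hS.exact U x hx,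
      by rintro ⟨y, rfl⟩; exact QCoh.app_app_eq_zero S U y⟩
  exact Module.Finite.of_exact hex (@QCoh.app_surjective_of_shortExact X U hU S hS h₁.1)

theorem isCoh_biprod {A B : X.Modules} (hA : Coh.IsCoh A) (hB : Coh.IsCoh B) :
    Coh.IsCoh (A ⊞ B) :=
  isCoh_of_shortExact (ShortComplex.Splitting.ofHasBinaryBiproduct A B).shortExact hA hB

theorem isCoh_of_isZero {A : X.Modules} (h : IsZero A) : Coh.IsCoh A := by
  have hq : Coh.IsQCoh A := by
    refine @QCoh.isQuasicoherent_of_iso X (∐ fun i : PEmpty.{u + 1} ↦ (i.elim : X.Modules)) A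
      (IsZero.iso ((IsZero.iff_id_eq_zero _).mpr (Sigma.hom_ext _ _ fun i ↦ i.elim)) h) ?_
    haveI : ∀ i : PEmpty.{u + 1}, (i.elim : X.Modules).IsQuasicoherent := fun i ↦ i.elim
    exact QCoh.isQuasicoherent_coproduct _
  refine ⟨hq, (@QCoh.isFiniteType_iff X A hq).mpr fun U _ ↦ ?_⟩
  have : Subsingleton Γ(A, U) :=
    AddCommGrpCat.subsingleton_of_isZero ((QCoh.sectionsFunctor X U).map_isZero h)
  infer_instance

lemma isClosed_support {M : X.Modules} (h : Coh.IsCoh M) : IsClosed (CohB1.support M) := by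
  haveI : M.IsQuasicoherent := h.1
  have := CycLib.isClosed_support M h
  simpa only [CohB1.support, not_subsingleton_iff_nontrivial] using this

lemma support_subset_of_mono {A B : X.Modules} (f : A ⟶ B) [Mono f] :
    CohB1.support A ⊆ CohB1.support B := fun x hx hB ↦ hx <| subsingleton_of_forall_eq 0 fun t ↦ by
  obtain ⟨W, hxW, m, rfl⟩ := exists_germM_eq A x t
  have h0 : germM B W x hxW (f.app W m) = 0 := @Subsingleton.elim _ hB _ _
  obtain ⟨V, hxV, i₁, _, e⟩ := B.presheaf.germ_eq x hxW hxW _ 0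
    (h0.trans (map_zero (B.presheaf.germ W x hxW).hom).symm)
  have hz : QCoh.res A i₁.le m = 0 := QCoh.app_injective_of_mono f V (by
    rw [QCoh.app_res, map_zero]
    exact e.trans (map_zero _))
  exact (A.presheaf.germ_res_apply i₁ x hxV m).symm.trans
    ((congrArg (A.presheaf.germ V x hxV) hz).trans (map_zero _))

lemma support_subset_of_epi {A B : X.Modules} (f : A ⟶ B) [Epi f] :
    CohB1.support B ⊆ CohB1.support A := fun x hx hA ↦ hx <| by
  have := hA
  exact (stalk_surjective f x).subsingleton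

lemma support_subset_union {S : ShortComplex X.Modules} (hS : S.ShortExact) :
    CohB1.support S.X₂ ⊆ CohB1.support S.X₁ ∪ CohB1.support S.X₃ := fun x hx ↦ by
  by_contra hn
  simp only [Set.mem_union, CohB1.support, Set.mem_ofPred_eq, not_or, not_not] at hn
  refine hx (subsingleton_of_forall_eq 0 fun t ↦ ?_)
  obtain ⟨_, hex, _⟩ := stalk_exact hS x
  obtain ⟨a, rfl⟩ := (hex t).mp (@Subsingleton.elim _ hn.2 _ _)
  rw [@Subsingleton.elim _ hn.1 a 0, map_zero]

lemma support_biprod_subset (A B : X.Modules) :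
    CohB1.support (A ⊞ B) ⊆ CohB1.support A ∪ CohB1.support B :=
  support_subset_union (ShortComplex.Splitting.ofHasBinaryBiproduct A B).shortExact

lemma isZero_of_support_eq_empty {M : X.Modules} (h : CohB1.support M = ∅) : IsZero M := by
  rw [IsZero.iff_id_eq_zero]
  refine Scheme.Modules.hom_ext _ _ fun U ↦ ?_
  ext s
  refine TopCat.Presheaf.section_ext (⟨M.presheaf, M.isSheaf⟩ : TopCat.Sheaf AddCommGrpCat X)
    U _ _ fun y hy ↦ ?_
  have : Subsingleton (M.presheaf.stalk y) := by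
    by_contra hn
    exact (Set.eq_empty_iff_forall_notMem.mp h) y hn
  exact Subsingleton.elim _ _

end Groth.Agent.CohDev
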