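import Groth.Agent.CohDev.K0
import Groth.Agent.ClUnit.Basic
import Groth.Agent.ZClosLib.CohDescent
import Groth.Agent.Props.SubExt

/-!
`K₀(Coh)` of a closed subscheme and of an open subscheme.
-/

universe u

open CategoryTheory Limits AlgebraicGeometry Opposite TopologicalSpace
open scoped ZeroObject

noncomputable section

namespace Groth.Agent.CohDev

open Groth.Agent.PullStalk.Sky Groth.Agent.PullStalk.Exact Groth.Agent.Props.SubMod
  Groth.Agent.Props.SubSheaf

lemma mapSub_kcl {X Y : Scheme.{u}} (F : X.Modules ⥤ Y.Modules) [F.Additive]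
    [PreservesFiniteLimits F] [PreservesFiniteColimits F]
    (h : ∀ M, Coh.IsCoh M → Coh.IsCoh (F.obj M)) {M : X.Modules} (hM : Coh.IsCoh M) :
    SGA6.mapSub F (fun M : X.Modules => Coh.IsCoh M) (fun M : Y.Modules => Coh.IsCoh M) h (kcl M) =
      kcl (F.obj M) := by
  simp only [kcl, KZero.clSub, dif_pos hM, dif_pos (h M hM)]
  rfl

/-! ### Closed immersions -/

section Closed

variable {X X' : Scheme.{u}} (i : X' ⟶ X) [IsClosedImmersion i]

lemma killed_ker_of_killed_ptIdeal {x : X} (hx : x ∈ Set.range i) {J : X.Modules}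
    (h : Killed (IntMult.ptIdeal x) J) : Killed i.ker J := by
  refine killed_mono_ideal (Scheme.IdealSheafData.le_support_iff_le_vanishingIdeal.mp ?_) h
  exact closure_minimal (Set.singleton_subset_iff.mpr (i.range_subset_ker_support hx))
    i.ker.support.isClosed

/-- A killed module is a direct image. -/
def unitIsoOfKilled {J : X.Modules} (h : Killed i.ker J) :
    J ≅ (Scheme.Modules.pushforward i).obj ((Scheme.Modules.pullback i).obj J) :=
  haveI : IsIso ((Scheme.Modules.pullbackPushforwardAdjunction i).unit.app J) :=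
    (ClUnit.isIso_unit_iff i J).mpr fun V a ha s ↦ h V a ha s
  asIso ((Scheme.Modules.pullbackPushforwardAdjunction i).unit.app J)

/-- Classes of modules supported on a closed subscheme come from it. -/
theorem kcl_mem_range_push [IsNoetherian X] [(Scheme.Modules.pushforward i).Additive]
    [PreservesFiniteLimits (Scheme.Modules.pushforward i)]
    [PreservesFiniteColimits (Scheme.Modules.pushforward i)]
    (hi : ∀ M : X'.Modules, Coh.IsCoh M → Coh.IsCoh ((Scheme.Modules.pushforward i).obj M))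
    {G : X.Modules} (hG : Coh.IsCoh G) (hs : CohB1.support G ⊆ Set.range i) :
    kcl G ∈ (SGA6.mapSub (Scheme.Modules.pushforward i) (fun M : X'.Modules => Coh.IsCoh M)
      (fun M : X.Modules => Coh.IsCoh M) hi).range := by
  revert hs
  refine devissage (fun M ↦ CohB1.support M ⊆ Set.range i →
      kcl M ∈ (SGA6.mapSub (Scheme.Modules.pushforward i) (fun M : X'.Modules => Coh.IsCoh M)
        (fun M : X.Modules => Coh.IsCoh M) hi).range)
    (fun M hM _ ↦ by rw [kcl_of_isZero hM]; exact zero_mem _)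
    (fun T hT h₁ h₂ h₃ p₁ p₃ hs ↦ ?_) (fun M hM hz ↦ ?_) hG
  · haveI := hT.mono_f
    haveI := hT.epi_g
    rw [kcl_add hT h₁ h₂ h₃]
    exact add_mem (p₁ ((support_subset_of_mono T.f).trans hs))
      (p₃ ((support_subset_of_epi T.g).trans hs))
  · obtain ⟨x, J, f, g, hf, hg, hJ, hx⟩ := exists_piece hM hz
    refine ⟨J, f, hf, hJ, fun hJ0 ↦ hx ?_, fun hs ↦ ?_⟩
    · exact AddCommGrpCat.subsingleton_of_isZero
        ((Scheme.Modules.toPresheaf X ⋙ TopCat.Presheaf.stalkFunctor AddCommGrpCat.{u} x).map_isZero hJ0)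
    · let e := unitIsoOfKilled i
        (killed_ker_of_killed_ptIdeal i (hs hx) (killed_of_mono g (killed_oz x)))
      have hc := ZClosLib.CohDescent.isCoh_pullback i J hJ
      exact ⟨kcl ((Scheme.Modules.pullback i).obj J),
        (mapSub_kcl _ hi hc).trans (kcl_iso e hJ).symm⟩

end Closed

/-! ### Open immersions -/

section Open

variable {X U : Scheme.{u}} (j : U ⟶ X) [IsOpenImmersion j]

local notation "R" => Scheme.Modules.restrictFunctor j

lemma image_preimage_of_le {W : X.Opens} (h : W ≤ j.opensRange) : j ''ᵁ (j ⁻¹ᵁ W) = W := by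
  rw [Scheme.Hom.image_preimage_eq_opensRange_inf, inf_eq_right.mpr h]

lemma app_injective_of_mono_restrict {A B : X.Modules} (f : A ⟶ B) [Mono ((R).map f)]
    {W : X.Opens} (h : W ≤ j.opensRange) : Function.Injective (f.app W) := by
  have := QCoh.app_injective_of_mono ((R).map f) (j ⁻¹ᵁ W)
  rw [← image_preimage_of_le j h]
  exact this

lemma app_bijective_of_isIso_restrict {A B : X.Modules} (f : A ⟶ B) [IsIso ((R).map f)]
    {W : X.Opens} (h : W ≤ j.opensRange) : Function.Bijective (f.app W) := by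
  have : Function.Bijective (((R).map f).app (j ⁻¹ᵁ W)) :=
    ConcreteCategory.bijective_of_isIso _
  rw [← image_preimage_of_le j h]
  exact this

lemma stalk_injective_of_mono_restrict {A B : X.Modules} (f : A ⟶ B) [Mono ((R).map f)]
    {y : X} (hy : y ∈ Set.range j) : Function.Injective (stalkLin f y) := by
  refine (injective_iff_map_eq_zero _).mpr fun t ht ↦ ?_
  obtain ⟨W, hyW, m, rfl⟩ := exists_germM_eq A y t
  rw [stalkLin_germ] at ht
  obtain ⟨V, hyV, i₁, _, e⟩ := B.presheaf.germ_eq y hyW hyW _ 0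
    (ht.trans (map_zero (B.presheaf.germ W y hyW).hom).symm)
  have hle : V ⊓ j.opensRange ≤ W := inf_le_left.trans i₁.le
  have hz : QCoh.res A hle m = 0 := app_injective_of_mono_restrict j f inf_le_right (by
    rw [QCoh.app_res, map_zero, ← QCoh.res_res B i₁.le inf_le_left]
    exact (congrArg _ (e.trans (map_zero _))).trans (map_zero _))
  have hy' : y ∈ V ⊓ j.opensRange := ⟨hyV, hy⟩
  exact (A.presheaf.germ_res_apply (homOfLE hle) y hy' m).symm.trans
    ((congrArg (A.presheaf.germ _ y hy') hz).trans (map_zero _))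

lemma stalk_bijective_of_isIso_restrict {A B : X.Modules} (f : A ⟶ B) [IsIso ((R).map f)]
    {y : X} (hy : y ∈ Set.range j) : Function.Bijective (stalkLin f y) := by
  refine ⟨stalk_injective_of_mono_restrict j f hy, fun t ↦ ?_⟩
  obtain ⟨W, hyW, m, rfl⟩ := exists_germM_eq B y t
  obtain ⟨a, ha⟩ := (app_bijective_of_isIso_restrict j f (inf_le_right : W ⊓ j.opensRange ≤ _)).2
    (QCoh.res B inf_le_left m)
  have hy' : y ∈ W ⊓ j.opensRange := ⟨hyW, hy⟩
  refine ⟨germM A _ y hy' a, ?_⟩
  rw [stalkLin_germ, ha]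
  exact B.presheaf.germ_res_apply _ y hy' m

lemma isZero_restrict_of_support {M : X.Modules} (h : CohB1.support M ⊆ (Set.range j)ᶜ) :
    IsZero ((R).obj M) := by
  rw [IsZero.iff_id_eq_zero]
  refine Scheme.Modules.hom_ext _ _ fun W ↦ ?_
  ext s
  refine TopCat.Presheaf.section_ext (⟨M.presheaf, M.isSheaf⟩ : TopCat.Sheaf AddCommGrpCat X)
    (j ''ᵁ W) _ _ fun y hy ↦ ?_
  have : Subsingleton (M.presheaf.stalk y) := by
    by_contra hn
    exact h hn ((j.image_le_opensRange W) hy)
  exact Subsingleton.elim _ _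

/-- Coherent extension of a coherent module, together with a map. -/
theorem exists_coh_extension [IsNoetherian X] (F : X.Modules) (hF : Coh.IsQCoh F) (G : U.Modules)
    (hG : Coh.IsCoh G) (φ : G ⟶ (R).obj F) :
    ∃ (H : X.Modules) (ψ : H ⟶ F) (e : (R).obj H ≅ G), Coh.IsCoh H ∧
      e.hom ≫ φ = (R).map ψ := by
  classical
  haveI : F.IsQuasicoherent := hF
  haveI : G.IsQuasicoherent := hG.1
  let P := Scheme.Modules.pushforward j
  let adj := Scheme.Modules.restrictAdjunction j
  let η : F ⟶ P.obj ((R).obj F) := adj.unit.app F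
  let A : X.Modules := P.obj G
  let B : X.Modules := P.obj ((R).obj F)
  haveI hA : A.IsQuasicoherent := QCoh.isQuasicoherent_pushforward j G
  haveI hRF : ((R).obj F).IsQuasicoherent := Scheme.Modules.isQuasicoherent_restrictFunctor j F
  haveI hB : B.IsQuasicoherent := QCoh.isQuasicoherent_pushforward j ((R).obj F)
  let d : A ⊞ F ⟶ B := biprod.desc (P.map φ) (-η)
  haveI : (A ⊞ F).IsQuasicoherent := Props.SubExt.isQuasicoherent_biprod A F
  let K := kernel d
  haveI hK : K.IsQuasicoherent := QCoh.isQuasicoherent_kernel d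
  let fst : K ⟶ A := kernel.ι d ≫ biprod.fst
  let snd : K ⟶ F := kernel.ι d ≫ biprod.snd
  have sq : IsPullback fst snd (P.map φ) η := by
    have hc : fst ≫ P.map φ = snd ≫ η := by
      rw [← sub_eq_zero]
      have h0 : kernel.ι d ≫ (biprod.fst ≫ P.map φ + biprod.snd ≫ (-η)) = 0 := by
        rw [← biprod.desc_eq]; exact kernel.condition d
      rw [Preadditive.comp_add, Preadditive.comp_neg, Preadditive.comp_neg] at h0
      simpa [fst, snd, sub_eq_add_neg] using h0
    refine ⟨⟨hc⟩, ⟨PullbackCone.IsLimit.mk hc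
      (fun s ↦ kernel.lift d (biprod.lift s.fst s.snd) ?_) (fun s ↦ by simp [fst])
      (fun s ↦ by simp [snd]) fun s m h1 h2 ↦ ?_⟩⟩
    · rw [biprod.lift_desc, Preadditive.comp_neg, ← sub_eq_add_neg, sub_eq_zero]
      exact s.condition
    · rw [← cancel_mono (kernel.ι d), kernel.lift_ι]
      refine biprod.hom_ext _ _ ?_ ?_
      · simpa [fst] using h1
      · simpa [snd] using h2
  haveI : PreservesFiniteLimits (R) := by
    have : ReflectsFiniteLimits (Scheme.Modules.toPresheaf U) := by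
      constructor
      intro J _ _
      exact reflectsLimitsOfShape_of_reflectsIsomorphisms
    have hw : PreservesFiniteLimits ((Functor.whiskeringLeft _ _ Ab.{u}).obj j.opensFunctor.op) := by
      constructor
      intro J _ _
      infer_instance
    have h : PreservesFiniteLimits ((R) ⋙ Scheme.Modules.toPresheaf _) :=
      comp_preservesFiniteLimits (Scheme.Modules.toPresheaf X)
        ((Functor.whiskeringLeft _ _ Ab.{u}).obj j.opensFunctor.op)
    exact preservesFiniteLimits_of_reflects_of_preserves (R) (Scheme.Modules.toPresheaf _)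
  haveI hη : IsIso ((R).map η) := by
    have h := adj.left_triangle_components F
    have : IsIso ((R).map η ≫ adj.counit.app ((R).obj F)) := by rw [h]; infer_instance
    exact IsIso.of_isIso_comp_right _ (adj.counit.app ((R).obj F))
  haveI hfst : IsIso ((R).map fst) := (sq.map (R)).isIso_fst_of_isIso
  let eK : (R).obj K ≅ G := asIso ((R).map fst) ≪≫ (asIso adj.counit).app G
  -- the submodule of finite type
  have hK' : Coh.IsCoh ((R).obj K) := isCoh_of_iso eK.symm hG
  have hft : FTOn (fun _ => ⊤ : StalkSub K) j.opensRange := by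
    intro y hy
    obtain ⟨z, rfl⟩ := hy
    obtain ⟨W, hW, hzW, -⟩ := exists_isAffineOpen_mem_and_subset (X := U) (Opens.mem_top z)
    obtain ⟨s, hs⟩ := (finite_sections hK' hW).fg_top
    let s' : Finset Γ(K, j ''ᵁ W) := s
    have hV := hW.image_of_isOpenImmersion j
    refine ⟨j ''ᵁ W, hV, ⟨z, hzW, rfl⟩, j.image_le_opensRange W, s', fun y hy ↦ ?_⟩
    symm
    rw [eq_top_iff]
    intro t _
    obtain ⟨m, r, hr, hrt⟩ := CycLib.exists_smul_germ_eq K hV hy t
    have hm : m ∈ Submodule.span Γ(X, j ''ᵁ W) (s' : Set Γ(K, j ''ᵁ W)) := by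
      have key : ∀ a : Γ((R).obj K, W), (show Γ(K, j ''ᵁ W) from a) ∈
          Submodule.span Γ(X, j ''ᵁ W) (s' : Set Γ(K, j ''ᵁ W)) := fun a ↦ by
        have ha : a ∈ Submodule.span Γ(U, W) (s : Set Γ((R).obj K, W)) := hs ▸ Submodule.mem_top
        induction ha using Submodule.span_induction with
        | mem a ha => exact Submodule.subset_span ha
        | zero => exact Submodule.zero_mem _
        | add a b _ _ ha hb => exact Submodule.add_mem _ ha hb
        | smul c a _ ha =>
          exact (QCoh.restrict_smul j K c a).symm ▸ Submodule.smul_mem _ _ ha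
      exact key m
    obtain ⟨u, hu⟩ := hr
    have := Submodule.smul_mem _ (↑u⁻¹ : X.presheaf.stalk y)
      (germ_mem_spanGerm_of_mem_span hm y hy)
    rwa [← hrt, ← hu, smul_smul, u.inv_mul, one_smul] at this
  obtain ⟨S, hS, hSU, -⟩ := exists_global (NoetherianSpace.isCompact _) hft
  haveI : IsIso ((R).map (incl S)) := by
    refine Scheme.Modules.Hom.isIso_iff_isIso_app.mpr fun W => ?_
    refine (ConcreteCategory.isIso_iff_bijective _).mpr
      ⟨fun a b hab => incl_injective S _ hab, fun m => ?_⟩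
    obtain ⟨a, ha⟩ := (mem_range_incl S (V := j ''ᵁ W) m).mpr fun y hy => by
      exact (hSU y (j.image_le_opensRange W hy)).ge trivial
    exact ⟨a, ha⟩
  refine ⟨sub S, incl S ≫ snd, asIso ((R).map (incl S)) ≪≫ eK,
    ⟨isQuasicoherent_sub hS, isFiniteType_sub hS⟩, ?_⟩
  have hn : adj.counit.app G ≫ φ = (R).map (P.map φ) ≫ adj.counit.app ((R).obj F) :=
    (adj.counit.naturality φ).symm
  change ((R).map (incl S) ≫ (R).map fst ≫ adj.counit.app G) ≫ φ = _
  rw [Category.assoc, Category.assoc, hn, ← Category.assoc ((R).map fst), ← (R).map_comp, sq.w,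
    (R).map_comp, Category.assoc, adj.left_triangle_components, Category.comp_id, ← (R).map_comp]

variable [IsNoetherian X] [(Scheme.Modules.restrictFunctor j).Additive]
  [PreservesFiniteLimits (Scheme.Modules.restrictFunctor j)]
  [PreservesFiniteColimits (Scheme.Modules.restrictFunctor j)]

/-- Two coherent extensions of one module have the same class up to the complement. -/
theorem kcl_sub_mem_of_restrict_iso {H H' : X.Modules} (hH : Coh.IsCoh H) (hH' : Coh.IsCoh H')
    (θ : (R).obj H ≅ (R).obj H') {T : Set X} (hT : CohB1.support H ⊆ T)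
    (hT' : CohB1.support H' ⊆ T) : kcl H - kcl H' ∈ clSpan (T \ Set.range j) := by
  let φ : (R).obj H ⟶ (R).obj (H ⊞ H') := (R).map biprod.inl + θ.hom ≫ (R).map biprod.inr
  obtain ⟨K, ψ, e, hK, he⟩ := exists_coh_extension j (H ⊞ H') (isQCoh_biprod hH.1 hH'.1)
    ((R).obj H) (isCoh_of_iso (Scheme.Modules.restrictFunctorIsoPullback j |>.app H).symm
      (ZClosLib.CohDescent.isCoh_pullback j H hH)) φ
  have ha : (R).map (ψ ≫ biprod.fst) = e.hom := by
    rw [(R).map_comp, ← he, Category.assoc, Preadditive.add_comp, Category.assoc, ← (R).map_comp,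
      ← (R).map_comp, biprod.inl_fst, biprod.inr_fst, (R).map_id, (R).map_zero, comp_zero,
      add_zero, Category.comp_id]
  have hb : (R).map (ψ ≫ biprod.snd) = e.hom ≫ θ.hom := by
    rw [(R).map_comp, ← he, Category.assoc, Preadditive.add_comp, Category.assoc, ← (R).map_comp,
      ← (R).map_comp, biprod.inl_snd, biprod.inr_snd, (R).map_id, (R).map_zero, zero_add,
      Category.comp_id]
  haveI : IsIso ((R).map (ψ ≫ biprod.fst)) := ha ▸ inferInstance
  haveI : IsIso ((R).map (ψ ≫ biprod.snd)) := hb ▸ inferInstance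
  exact kcl_sub_mem_of_roof _ _ hK hH hH' hT hT'
    (fun y hy ↦ stalk_bijective_of_isIso_restrict j (ψ ≫ biprod.fst) hy)
    (fun y hy ↦ stalk_bijective_of_isIso_restrict j (ψ ≫ biprod.snd) hy)

/-- Localisation sequence. -/
theorem localization (hj : ∀ M : X.Modules, Coh.IsCoh M → Coh.IsCoh ((R).obj M)) :
    Function.Surjective (SGA6.mapSub (R) (fun M : X.Modules => Coh.IsCoh M)
      (fun M : U.Modules => Coh.IsCoh M) hj) ∧
    (SGA6.mapSub (R) (fun M : X.Modules => Coh.IsCoh M)
      (fun M : U.Modules => Coh.IsCoh M) hj).ker = clSpan ((Set.range j)ᶜ) := by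
  set π := SGA6.mapSub (R) (fun M : X.Modules => Coh.IsCoh M) (fun M : U.Modules => Coh.IsCoh M) hj
  have hext : ∀ G : Subtype (fun M : U.Modules => Coh.IsCoh M),
      ∃ H : X.Modules, Coh.IsCoh H ∧ Nonempty ((R).obj H ≅ G.1) := fun G ↦ by
    obtain ⟨H, -, e, hH, -⟩ := exists_coh_extension j (0 : X.Modules)
      (isCoh_of_isZero (isZero_zero _)).1 G.1 G.2 0
    exact ⟨H, hH, ⟨e⟩⟩
  choose ext hextc hexti using hext
  let N := clSpan (X := X) ((Set.range j)ᶜ)
  have hwd : ∀ {H H' : X.Modules}, Coh.IsCoh H → Coh.IsCoh H' →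
      Nonempty ((R).obj H ≅ (R).obj H') → kcl H - kcl H' ∈ N := fun hH hH' ⟨θ⟩ ↦ by
    have := kcl_sub_mem_of_restrict_iso j hH hH' θ (Set.subset_univ _) (Set.subset_univ _)
    rwa [← Set.compl_eq_univ_sdiff] at this
  let ψ₀ : FreeAbelianGroup (Subtype (fun M : U.Modules => Coh.IsCoh M)) →+ SGA6.Kcoh X ⧸ N :=
    FreeAbelianGroup.lift fun G ↦ QuotientAddGroup.mk (kcl (ext G))
  have hrel : KZero.relSub (fun M : U.Modules => Coh.IsCoh M) ≤ ψ₀.ker := by
    rw [KZero.relSub, AddSubgroup.closure_le]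
    rintro _ ⟨S, h₁, h₂, h₃, hS, rfl⟩
    simp only [SetLike.mem_coe, AddMonoidHom.mem_ker, map_sub, ψ₀, FreeAbelianGroup.lift_apply_of]
    rw [← QuotientAddGroup.mk_sub, ← QuotientAddGroup.mk_sub, QuotientAddGroup.eq_zero_iff]
    obtain ⟨eB⟩ := hexti ⟨S.X₂, h₂⟩
    obtain ⟨A, f, eA, hA, hf⟩ := exists_coh_extension j (ext ⟨S.X₂, h₂⟩) (hextc _).1 S.X₁ h₁
      (S.f ≫ eB.inv)
    haveI := hS.mono_f
    haveI := hS.epi_g
    haveI : Mono ((R).map f) := hf ▸ inferInstance
    have hker : kcl (kernel f) ∈ N := kcl_mem_clSpan (isCoh_kernel' f hA (hextc _)) fun y hy hyj ↦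
      not_mem_support_kernel f (stalk_injective_of_mono_restrict j f hyj) hy
    have hC := isCoh_cokernel f hA.1 (hextc ⟨S.X₂, h₂⟩)
    have e₁ := hwd (hextc ⟨S.X₁, h₁⟩) hA ⟨(hexti ⟨S.X₁, h₁⟩).some ≪≫ eA.symm⟩
    have e₃ : kcl (ext ⟨S.X₃, h₃⟩) - kcl (cokernel f) ∈ N := by
      refine hwd (hextc _) hC ⟨(hexti ⟨S.X₃, h₃⟩).some ≪≫ ?_⟩
      exact IsColimit.coconePointUniqueUpToIso hS.gIsCokernel (cokernelIsCokernel S.f) ≪≫
        (cokernel.mapIso ((R).map f) S.f eA eB (by
          rw [← hf, Category.assoc, Category.assoc, eB.inv_hom_id, Category.comp_id])).symm ≪≫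
        (PreservesCokernel.iso (R) f).symm
    have h := kcl_sub f hA (hextc ⟨S.X₂, h₂⟩)
    have hx : kcl (ext ⟨S.X₂, h₂⟩) - kcl (ext ⟨S.X₁, h₁⟩) - kcl (ext ⟨S.X₃, h₃⟩) =
        -(kcl (ext ⟨S.X₁, h₁⟩) - kcl A) - (kcl (ext ⟨S.X₃, h₃⟩) - kcl (cokernel f)) -
          kcl (kernel f) := by
      have h' : kcl A = kcl (kernel f) - kcl (cokernel f) + kcl (ext ⟨S.X₂, h₂⟩) := by
        rw [← h, sub_add_cancel]
      rw [h']; abel
    rw [hx]
    exact sub_mem (sub_mem (neg_mem e₁) e₃) hker
  let ψ : SGA6.Kcoh U →+ SGA6.Kcoh X ⧸ N := QuotientAddGroup.lift _ ψ₀ hrel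
  have hψ : ∀ z, ψ (π z) = QuotientAddGroup.mk z := fun z ↦ by
    induction z using kcl_induction with
    | h0 => rw [map_zero, map_zero]; rfl
    | hcl M hM =>
      rw [mapSub_kcl _ hj hM]
      have : ψ (kcl ((R).obj M)) = QuotientAddGroup.mk (kcl (ext ⟨_, hj M hM⟩)) := by
        simp only [kcl, KZero.clSub, dif_pos (hj M hM)]
        exact FreeAbelianGroup.lift_apply_of _ _
      rw [this, QuotientAddGroup.eq_iff_sub_mem]
      exact hwd (hextc _) hM (hexti ⟨_, hj M hM⟩)
    | hneg a ha => rw [map_neg, map_neg, ha]; rfl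
    | hadd a b ha hb => rw [map_add, map_add, ha, hb]; rfl
  refine ⟨fun z ↦ ?_, le_antisymm (fun z hz ↦ ?_) ((AddSubgroup.closure_le _).mpr ?_)⟩
  · induction z using kcl_induction with
    | h0 => exact ⟨0, map_zero _⟩
    | hcl M hM =>
      exact ⟨kcl (ext ⟨M, hM⟩), (mapSub_kcl _ hj (hextc _)).trans
        (kcl_iso (hexti ⟨M, hM⟩).some (hj _ (hextc _)))⟩
    | hneg a ha => obtain ⟨b, rfl⟩ := ha; exact ⟨-b, map_neg _ _⟩
    | hadd a b ha hb =>
      obtain ⟨c, rfl⟩ := ha; obtain ⟨d, rfl⟩ := hb; exact ⟨c + d, map_add _ _ _⟩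
  · rw [AddMonoidHom.mem_ker] at hz
    have := hψ z
    rw [hz, map_zero] at this
    exact (QuotientAddGroup.eq_zero_iff z).mp this.symm
  · rintro _ ⟨G, hG, hs, rfl⟩
    rw [SetLike.mem_coe, AddMonoidHom.mem_ker, mapSub_kcl _ hj hG]
    exact kcl_of_isZero (isZero_restrict_of_support j hs)

end Open

end Groth.Agent.CohDev
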