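import Groth.Agent.CohDev.Coh
import Mathlib.CategoryTheory.ObjectProperty.Extensions
import Mathlib.CategoryTheory.ObjectProperty.Kernels

/-!
Object-property closure instances for coherent modules (with support in a closed subset).
-/

universe u

open CategoryTheory Limits AlgebraicGeometry
open scoped ZeroObject

namespace Groth.Agent.CohDev

variable (X : Scheme.{u}) [IsLocallyNoetherian X]

instance : ObjectProperty.IsClosedUnderIsomorphisms (fun M : X.Modules => Coh.IsCoh M) :=
  ⟨fun e h => isCoh_of_iso e h⟩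

instance : ObjectProperty.ContainsZero (fun M : X.Modules => Coh.IsCoh M) :=
  ⟨⟨_, isZero_zero _, isCoh_of_isZero (isZero_zero _)⟩⟩

instance : ObjectProperty.IsClosedUnderKernels (fun M : X.Modules => Coh.IsCoh M) where
  kernels_le := by
    rintro _ ⟨f, k, hk, hA, hB⟩
    exact isCoh_of_iso ((kernelIsKernel f).conePointUniqueUpToIso hk) (isCoh_kernel f hA hB.1)

instance : ObjectProperty.IsClosedUnderCokernels (fun M : X.Modules => Coh.IsCoh M) where
  cokernels_le := by
    rintro _ ⟨f, k, hk, hA, hB⟩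
    exact isCoh_of_iso ((cokernelIsCokernel f).coconePointUniqueUpToIso hk) (isCoh_cokernel f hA.1 hB)

instance : ObjectProperty.IsClosedUnderExtensions (fun M : X.Modules => Coh.IsCoh M) :=
  ⟨fun hS h₁ h₃ => isCoh_of_shortExact hS h₁ h₃⟩

variable (Y : Set X)

instance : ObjectProperty.IsClosedUnderIsomorphisms
    (fun M : X.Modules => Coh.IsCoh M ∧ CohB1.support M ⊆ Y) :=
  ⟨fun e h => ⟨isCoh_of_iso e h.1, (support_subset_of_epi e.hom).trans h.2⟩⟩

instance : ObjectProperty.ContainsZero (fun M : X.Modules => Coh.IsCoh M ∧ CohB1.support M ⊆ Y) :=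
  ⟨⟨_, isZero_zero _, isCoh_of_isZero (isZero_zero _), fun x hx => (hx <| by
    refine subsingleton_of_forall_eq 0 fun t => ?_
    obtain ⟨W, hxW, m, rfl⟩ := Groth.Agent.PullStalk.Sky.exists_germM_eq (0 : X.Modules) x t
    have : Subsingleton Γ((0 : X.Modules), W) :=
      AddCommGrpCat.subsingleton_of_isZero ((QCoh.sectionsFunctor X W).map_isZero (isZero_zero _))
    rw [Subsingleton.elim m 0]; exact map_zero _).elim⟩⟩

instance : ObjectProperty.IsClosedUnderKernels
    (fun M : X.Modules => Coh.IsCoh M ∧ CohB1.support M ⊆ Y) where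
  kernels_le := by
    rintro _ ⟨f, k, hk, hA, hB⟩
    have e := (kernelIsKernel f).conePointUniqueUpToIso hk
    exact ⟨isCoh_of_iso e (isCoh_kernel f hA.1 hB.1.1),
      (support_subset_of_epi e.hom).trans ((support_subset_of_mono (kernel.ι f)).trans hA.2)⟩

instance : ObjectProperty.IsClosedUnderCokernels
    (fun M : X.Modules => Coh.IsCoh M ∧ CohB1.support M ⊆ Y) where
  cokernels_le := by
    rintro _ ⟨f, k, hk, hA, hB⟩
    have e := (cokernelIsCokernel f).coconePointUniqueUpToIso hk
    exact ⟨isCoh_of_iso e (isCoh_cokernel f hA.1.1 hB.1),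
      (support_subset_of_epi e.hom).trans ((support_subset_of_epi (cokernel.π f)).trans hB.2)⟩

instance : ObjectProperty.IsClosedUnderExtensions
    (fun M : X.Modules => Coh.IsCoh M ∧ CohB1.support M ⊆ Y) :=
  ⟨fun hS h₁ h₃ => ⟨isCoh_of_shortExact hS h₁.1 h₃.1,
    (support_subset_union hS).trans (Set.union_subset h₁.2 h₃.2)⟩⟩

end Groth.Agent.CohDev
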