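import Groth.Agent.CohDev.Key
import Groth.Agent.ResK0.Basic
import Groth.Prelude.Def_SGA6

/-!
Classes of coherent modules in `K₀(Coh X)`: dévissage by supports.
-/

universe u

open CategoryTheory Limits AlgebraicGeometry Opposite TopologicalSpace

noncomputable section

namespace Groth.Agent.CohDev

open Groth.Agent.PullStalk.Sky Groth.Agent.PullStalk.Exact

variable {X : Scheme.{u}}

/-- The class of a module in `K₀(Coh X)`. -/
abbrev kcl (M : X.Modules) : SGA6.Kcoh X := KZero.clSub (fun M : X.Modules => Coh.IsCoh M) M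

lemma kcl_add {S : ShortComplex X.Modules} (hS : S.ShortExact) (h₁ : Coh.IsCoh S.X₁)
    (h₂ : Coh.IsCoh S.X₂) (h₃ : Coh.IsCoh S.X₃) : kcl S.X₂ = kcl S.X₁ + kcl S.X₃ :=
  ResK0.Basic.clSub_add _ hS h₁ h₂ h₃

lemma kcl_of_isZero {M : X.Modules} (h : IsZero M) : kcl M = 0 := by
  let S := ShortComplex.mk (𝟙 M) (0 : M ⟶ M) (h.eq_of_tgt _ _)
  have hS : S.ShortExact :=
    { exact := ShortComplex.exact_of_isZero_X₂ _ h
      mono_f := inferInstanceAs (Mono (𝟙 M))
      epi_g := ⟨fun _ _ _ ↦ h.eq_of_src _ _⟩ }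
  have := kcl_add hS (isCoh_of_isZero h) (isCoh_of_isZero h) (isCoh_of_isZero h)
  simpa [S] using this.symm

lemma kcl_iso {A B : X.Modules} (e : A ≅ B) (hA : Coh.IsCoh A) : kcl A = kcl B := by
  let S := ShortComplex.mk (0 : kernel e.hom ⟶ A) e.hom zero_comp
  have hz : IsZero (kernel e.hom) := isZero_kernel_of_mono e.hom
  have hS : S.ShortExact :=
    { exact := by
        haveI : Mono S.g := inferInstanceAs (Mono e.hom)
        exact (S.exact_iff_mono rfl).mpr this
      mono_f := ⟨fun _ _ _ ↦ hz.eq_of_tgt _ _⟩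
      epi_g := inferInstanceAs (Epi e.hom) }
  exact (kcl_add hS (isCoh_of_isZero hz) hA (isCoh_of_iso e hA)).trans
    (by rw [kcl_of_isZero hz, zero_add])

lemma kcl_biprod {A B : X.Modules} (hA : Coh.IsCoh A) (hB : Coh.IsCoh B) :
    kcl (A ⊞ B) = kcl A + kcl B :=
  kcl_add (ShortComplex.Splitting.ofHasBinaryBiproduct A B).shortExact hA (isCoh_biprod hA hB) hB

/-- A mono and its cokernel. -/
lemma kcl_mono {A B : X.Modules} (f : A ⟶ B) [Mono f] (hA : Coh.IsCoh A) (hB : Coh.IsCoh B) :
    kcl B = kcl A + kcl (cokernel f) :=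
  kcl_add (S := ShortComplex.mk f (cokernel.π f) (cokernel.condition f))
    { exact := ShortComplex.exact_of_g_is_cokernel _ (cokernelIsCokernel f)
      mono_f := ‹_›
      epi_g := inferInstanceAs (Epi (cokernel.π f)) }
    hA hB (isCoh_cokernel f hA.1 hB)

/-- The classes generate. -/
lemma kcl_induction {motive : SGA6.Kcoh X → Prop} (h0 : motive 0)
    (hcl : ∀ M, Coh.IsCoh M → motive (kcl M))
    (hneg : ∀ a, motive a → motive (-a)) (hadd : ∀ a b, motive a → motive b → motive (a + b))
    (a : SGA6.Kcoh X) : motive a := by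
  induction a using QuotientAddGroup.induction_on with
  | _ z =>
    induction z using FreeAbelianGroup.induction_on with
    | zero => exact h0
    | of M =>
      have := hcl M.1 M.2
      simp only [kcl, KZero.clSub, dif_pos M.2] at this
      exact this
    | neg M hM => exact hneg _ hM
    | add a b ha hb => exact hadd _ _ ha hb

/-- The subgroup generated by the classes of coherent modules supported in `T`. -/
def clSpan (T : Set X) : AddSubgroup (SGA6.Kcoh X) :=
  AddSubgroup.closure {c | ∃ G : X.Modules, Coh.IsCoh G ∧ CohB1.support G ⊆ T ∧ c = kcl G}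

lemma kcl_mem_clSpan {T : Set X} {G : X.Modules} (hG : Coh.IsCoh G) (h : CohB1.support G ⊆ T) :
    kcl G ∈ clSpan T := AddSubgroup.subset_closure ⟨G, hG, h, rfl⟩

variable [IsNoetherian X]

lemma isCoh_kernel' {A B : X.Modules} (f : A ⟶ B) (hA : Coh.IsCoh A) (hB : Coh.IsCoh B) :
    Coh.IsCoh (kernel f) := isCoh_kernel f hA hB.1

omit [AlgebraicGeometry.IsNoetherian X] in
lemma not_mem_support_kernel {A B : X.Modules} (f : A ⟶ B) {y : X}
    (h : Function.Injective (stalkLin f y)) : y ∉ CohB1.support (kernel f) := fun hy ↦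
  hy (subsingleton_of_forall_eq 0 fun t ↦ stalk_injective (kernel.ι f) y
    ((h ((by rw [← stalkLin_comp_apply, kernel.condition, stalkLin_zero_apply] :
      stalkLin f y (stalkLin (kernel.ι f) y t) = 0).trans (map_zero _).symm)).trans (map_zero _).symm))

omit [AlgebraicGeometry.IsNoetherian X] in
lemma not_mem_support_cokernel {A B : X.Modules} (f : A ⟶ B) {y : X}
    (h : Function.Surjective (stalkLin f y)) : y ∉ CohB1.support (cokernel f) := fun hy ↦
  hy (subsingleton_of_forall_eq 0 fun t ↦ by
    obtain ⟨b, rfl⟩ := stalk_surjective (cokernel.π f) y t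
    obtain ⟨a, rfl⟩ := h b
    rw [← stalkLin_comp_apply, cokernel.condition, stalkLin_zero_apply])

/-- The difference of classes along a map is that of kernel and cokernel. -/
lemma kcl_sub {A B : X.Modules} (f : A ⟶ B) (hA : Coh.IsCoh A) (hB : Coh.IsCoh B) :
    kcl A - kcl B = kcl (kernel f) - kcl (cokernel f) := by
  let I := Abelian.image f
  have hI : Coh.IsCoh I := isCoh_image f hA hB.1
  let S := ShortComplex.mk (kernel.ι f) (Abelian.factorThruImage f)
    (by rw [← cancel_mono (Abelian.image.ι f), Category.assoc, Abelian.image.fac, kernel.condition,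
      zero_comp])
  have hS : S.ShortExact :=
    { exact := by
        refine S.exact_of_f_is_kernel (KernelFork.IsLimit.ofι _ _ (fun {W} k hk ↦
          kernel.lift f k ?_) (fun k hk ↦ kernel.lift_ι _ _ _) fun k hk m hm ↦ ?_)
        · rw [← Abelian.image.fac f, reassoc_of% hk, zero_comp]
        · rw [← cancel_mono (kernel.ι f), kernel.lift_ι]
          exact hm
      mono_f := inferInstanceAs (Mono (kernel.ι f))
      epi_g := inferInstanceAs (Epi (Abelian.factorThruImage f)) }
  have h1 : kcl A = kcl (kernel f) + kcl I := kcl_add hS (isCoh_kernel' f hA hB) hA hI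
  let T := ShortComplex.mk (Abelian.image.ι f) (cokernel.π f) (kernel.condition _)
  have hT : T.ShortExact :=
    { exact := T.exact_of_f_is_kernel (kernelIsKernel _)
      mono_f := inferInstanceAs (Mono (Abelian.image.ι f))
      epi_g := inferInstanceAs (Epi (cokernel.π f)) }
  have h2 : kcl B = kcl I + kcl (cokernel f) := kcl_add hT hI hB (isCoh_cokernel f hA.1 hB)
  rw [h1, h2]; abel

/-- Two modules supported in `T` related by a map bijective on stalks over `U`. -/
lemma kcl_sub_mem_of_map {A B : X.Modules} (f : A ⟶ B) (hA : Coh.IsCoh A) (hB : Coh.IsCoh B)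
    {T U : Set X} (hTA : CohB1.support A ⊆ T) (hTB : CohB1.support B ⊆ T)
    (h : ∀ y ∈ U, Function.Bijective (stalkLin f y)) : kcl A - kcl B ∈ clSpan (T \ U) := by
  rw [kcl_sub f hA hB]
  refine sub_mem (kcl_mem_clSpan (isCoh_kernel' f hA hB) fun y hy ↦
      ⟨hTA (support_subset_of_mono (kernel.ι f) hy), fun hyU ↦ not_mem_support_kernel f (h y hyU).1 hy⟩)
    (kcl_mem_clSpan (isCoh_cokernel f hA.1 hB) fun y hy ↦
      ⟨hTB (support_subset_of_epi (cokernel.π f) hy), fun hyU ↦
        not_mem_support_cokernel f (h y hyU).2 hy⟩)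

/-- Two modules supported in `T` related by a roof bijective on stalks over `U`. -/
lemma kcl_sub_mem_of_roof {H A B : X.Modules} (a : H ⟶ A) (b : H ⟶ B) (hH : Coh.IsCoh H)
    (hA : Coh.IsCoh A) (hB : Coh.IsCoh B) {T U : Set X} (hTA : CohB1.support A ⊆ T)
    (hTB : CohB1.support B ⊆ T) (ha : ∀ y ∈ U, Function.Bijective (stalkLin a y))
    (hb : ∀ y ∈ U, Function.Bijective (stalkLin b y)) : kcl A - kcl B ∈ clSpan (T \ U) := by
  let c := biprod.lift a b
  let G := Abelian.image c
  let p := Abelian.factorThruImage c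
  have hG : Coh.IsCoh G := isCoh_image c hH (isQCoh_biprod hA.1 hB.1)
  have hTG : CohB1.support G ⊆ T := (support_subset_of_mono (Abelian.image.ι c)).trans
    ((support_biprod_subset A B).trans (Set.union_subset hTA hTB))
  have hpa : p ≫ (Abelian.image.ι c ≫ biprod.fst) = a := by
    rw [← Category.assoc, Abelian.image.fac, biprod.lift_fst]
  have hpb : p ≫ (Abelian.image.ι c ≫ biprod.snd) = b := by
    rw [← Category.assoc, Abelian.image.fac, biprod.lift_snd]
  have key : ∀ {C : X.Modules} (q : G ⟶ C) (d : H ⟶ C), p ≫ q = d → ∀ y,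
      Function.Bijective (stalkLin d y) → Function.Bijective (stalkLin q y) := by
    intro C q d hqd y hd
    have he : ⇑(stalkLin d y) = stalkLin q y ∘ stalkLin p y := funext fun t ↦ by
      rw [← hqd]; exact stalkLin_comp_apply p q y t
    rw [he] at hd
    exact ⟨hd.1.of_comp_right (stalk_surjective p y), hd.2.of_comp⟩
  have h1 := kcl_sub_mem_of_map _ hG hA hTG hTA fun y hy ↦ key _ a hpa y (ha y hy)
  have h2 := kcl_sub_mem_of_map _ hG hB hTG hTB fun y hy ↦ key _ b hpb y (hb y hy)
  have := sub_mem h2 h1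
  rwa [sub_sub_sub_cancel_left] at this

/-- A nonzero submodule of `O_Z` is everything at the generic point. -/
lemma stalk_piece {x : X} {J : X.Modules} (g : J ⟶ Cyc.closureStructureSheaf x) [Mono g]
    (hx : x ∈ CohB1.support J) : Function.Bijective (stalkLin g x) := by
  haveI : IsSimpleModule (X.presheaf.stalk x) ((Cyc.closureStructureSheaf x).presheaf.stalk x) :=
    Module.length_eq_one_iff.mp (length_stalk_oz x)
  refine ⟨stalk_injective g x, LinearMap.range_eq_top.mp
    ((IsSimpleOrder.eq_bot_or_eq_top _).resolve_left fun h ↦ hx ?_)⟩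
  refine subsingleton_of_forall_eq 0 fun t ↦ stalk_injective g x ?_
  rw [map_zero]
  exact (Submodule.mem_bot (X.presheaf.stalk x)).mp (h ▸ LinearMap.mem_range_self _ t)

/-- The classes of the structure sheaves of closures of points span. -/
theorem kcl_mem_closure_oz {G : X.Modules} (hG : Coh.IsCoh G) :
    kcl G ∈ AddSubgroup.closure
      {c | ∃ x ∈ CohB1.support G, c = kcl (Cyc.closureStructureSheaf x)} := by
  haveI : NoetherianSpace X := inferInstance
  let S : Set X → AddSubgroup (SGA6.Kcoh X) := fun T ↦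
    AddSubgroup.closure {c | ∃ x ∈ T, c = kcl (Cyc.closureStructureSheaf x)}
  have hmono : ∀ {T T' : Set X}, T ⊆ T' → S T ≤ S T' := fun h ↦
    AddSubgroup.closure_mono fun c ⟨x, hx, e⟩ ↦ ⟨x, h hx, e⟩
  suffices H : ∀ Z : Closeds X, ∀ {G : X.Modules}, Coh.IsCoh G → CohB1.support G ⊆ Z →
      kcl G ∈ S Z from H ⟨_, isClosed_support hG⟩ hG subset_rfl
  intro Z
  induction Z using WellFoundedLT.induction with
  | _ Z IH =>
    intro G hG hsupp
    refine devissage (fun M ↦ CohB1.support M ⊆ Z → kcl M ∈ S Z)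
      (fun M hM _ ↦ by rw [kcl_of_isZero hM]; exact zero_mem _)
      (fun T hT h₁ h₂ h₃ p₁ p₃ hs ↦ ?_) (fun M hM hz ↦ ?_) hG hsupp
    · haveI := hT.mono_f
      haveI := hT.epi_g
      rw [kcl_add hT h₁ h₂ h₃]
      exact add_mem (p₁ ((support_subset_of_mono T.f).trans hs))
        (p₃ ((support_subset_of_epi T.g).trans hs))
    · obtain ⟨x, J, f, g, hf, hg, hJ, hx⟩ := exists_piece hM hz
      refine ⟨J, f, hf, hJ, fun hJ0 ↦ hx ?_, fun hs ↦ ?_⟩
      · exact AddCommGrpCat.subsingleton_of_isZero
          ((Scheme.Modules.toPresheaf X ⋙ TopCat.Presheaf.stalkFunctor AddCommGrpCat.{u} x).map_isZero hJ0)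
      · have hxZ : x ∈ Z := hs hx
        have hcl : closure ({x} : Set X) ⊆ Z :=
          closure_minimal (Set.singleton_subset_iff.mpr hxZ) Z.isClosed
        have hQ := isCoh_cokernel g hJ.1 (isCoh_oz x)
        let Z' : Closeds X := ⟨CohB1.support (cokernel g), isClosed_support hQ⟩
        have hsub : CohB1.support (cokernel g) ⊆ closure {x} :=
          (support_subset_of_epi (cokernel.π g)).trans (support_oz_subset x)
        have hlt : Z' < Z := lt_of_le_of_ne (fun y hy ↦ hcl (hsub hy)) fun e ↦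
          not_mem_support_cokernel g (stalk_piece g hx).2 (by
            change x ∈ (Z' : Set X); rw [e]; exact hxZ)
        have hq := hmono (le_of_lt hlt) (IH Z' hlt hQ subset_rfl)
        rw [eq_sub_of_add_eq (kcl_mono g hJ (isCoh_oz x)).symm]
        exact sub_mem (AddSubgroup.subset_closure ⟨x, hxZ, rfl⟩) hq

end Groth.Agent.CohDev
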