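import Groth.Agent.CohDev.Kill
import Groth.Agent.CycLib.PushStalk
import Groth.Agent.QCoh.Pullback
import Groth.Agent.WeakAssSch.Unit
import Groth.Prelude.Def_ChowK
import Mathlib.RingTheory.Length
import Mathlib.RingTheory.Ideal.AssociatedPrime.Basic

/-!
Associated points and the structure sheaves of the closures of points.
-/

universe u

open CategoryTheory Limits AlgebraicGeometry Opposite TopologicalSpace

noncomputable section

namespace Groth.Agent.CohDev

open Groth.Agent.PullStalk.Sky Groth.Agent.PullStalk.Exact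

variable {X : Scheme.{u}}

lemma stalk_injective {A B : X.Modules} (f : A ⟶ B) [Mono f] (x : X) :
    Function.Injective (stalkLin f x) := by
  refine (injective_iff_map_eq_zero _).mpr fun t ht ↦ ?_
  obtain ⟨W, hxW, m, rfl⟩ := exists_germM_eq A x t
  rw [stalkLin_germ] at ht
  obtain ⟨V, hxV, i₁, _, e⟩ := B.presheaf.germ_eq x hxW hxW _ 0
    (ht.trans (map_zero (B.presheaf.germ W x hxW).hom).symm)
  have hz : QCoh.res A i₁.le m = 0 := QCoh.app_injective_of_mono f V (by
    rw [QCoh.app_res, map_zero]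
    exact e.trans (map_zero _))
  exact (A.presheaf.germ_res_apply i₁ x hxV m).symm.trans
    ((congrArg (A.presheaf.germ V x hxV) hz).trans (map_zero _))

/-- Some nonzero element of the stalk is killed by the maximal ideal. -/
def Assoc (M : X.Modules) (y : X) : Prop :=
  ∃ t : M.presheaf.stalk y, t ≠ 0 ∧ ∀ r ∈ IsLocalRing.maximalIdeal (X.presheaf.stalk y), r • t = 0

lemma assoc_of_mono {A B : X.Modules} (f : A ⟶ B) [Mono f] {y : X} (h : Assoc A y) :
    Assoc B y := by
  obtain ⟨t, ht, hr⟩ := h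
  exact ⟨stalkLin f y t, fun h0 ↦ ht (stalk_injective f y (h0.trans (map_zero _).symm)),
    fun r hrm ↦ by rw [← map_smul, hr r hrm, map_zero]⟩

lemma mem_support_of_assoc {M : X.Modules} {y : X} (h : Assoc M y) : y ∈ CohB1.support M :=
  fun hs ↦ by
    obtain ⟨t, ht, -⟩ := h
    exact ht (@Subsingleton.elim _ hs _ _)

/-- A coherent module which is not zero has an associated point. -/
theorem exists_assoc [IsLocallyNoetherian X] {M : X.Modules} (hM : Coh.IsCoh M)
    (h : ¬ IsZero M) : ∃ y, Assoc M y := by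
  haveI : M.IsQuasicoherent := hM.1
  obtain ⟨x, hx⟩ := Set.nonempty_iff_ne_empty.mpr fun e ↦ h (isZero_of_support_eq_empty e)
  obtain ⟨V, hV, hxV, -⟩ := exists_isAffineOpen_mem_and_subset (X := X) (Opens.mem_top x)
  have := IsLocallyNoetherian.component_noetherian ⟨V, hV⟩
  have : Nontrivial Γ(M, V) := by
    by_contra hn
    rw [not_nontrivial_iff_subsingleton] at hn
    refine hx (subsingleton_of_forall_eq 0 fun t ↦ ?_)
    obtain ⟨m, s, hs, hst⟩ := CycLib.exists_smul_germ_eq M hV hxV t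
    rw [Subsingleton.elim m 0] at hst
    exact hs.smul_eq_zero.mp (hst.trans (map_zero (M.presheaf.germ V x hxV).hom))
  obtain ⟨p, hp⟩ := associatedPrimes.nonempty Γ(X, V) Γ(M, V)
  obtain ⟨hpr, m, hm⟩ := Submodule.isAssociatedPrime_iff.mp hp
  let q : PrimeSpectrum Γ(X, V) := ⟨p, hpr⟩
  let y : X := hV.fromSpec q
  have hy : y ∈ V := hV.range_fromSpec.le ⟨q, rfl⟩
  have hyq : (hV.primeIdealOf ⟨y, hy⟩).asIdeal = p :=
    congrArg PrimeSpectrum.asIdeal
      (hV.fromSpec.isOpenEmbedding.injective (hV.fromSpec_primeIdealOf ⟨y, hy⟩))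
  refine ⟨y, germM M V y hy m, fun h0 ↦ ?_, fun r hr ↦ ?_⟩
  · obtain ⟨s, hs, hsm⟩ := CycLib.exists_smul_eq_zero_of_germ_eq_zero M hV hy m h0
    have := (CycLib.not_mem_primeIdealOf_iff hV hy s).mpr hs
    rw [hyq, hm, Submodule.mem_colon_singleton, Submodule.mem_bot] at this
    exact this hsm
  · letI := TopCat.Presheaf.algebra_section_stalk X.presheaf (⟨y, hy⟩ : V)
    haveI := hV.isLocalization_stalk ⟨y, hy⟩
    rw [← IsLocalization.AtPrime.map_eq_maximalIdeal (hV.primeIdealOf ⟨y, hy⟩).asIdeal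
      (X.presheaf.stalk y)] at hr
    induction hr using Submodule.span_induction with
    | mem c hc =>
      obtain ⟨a, ha, rfl⟩ := hc
      rw [SetLike.mem_coe, hyq, hm, Submodule.mem_colon_singleton, Submodule.mem_bot] at ha
      change X.presheaf.germ V y hy a • germM M V y hy m = 0
      rw [← germM_smul, ha]
      exact map_zero (M.presheaf.germ V y hy).hom
    | zero => exact zero_smul _ _
    | add b c _ _ hb hc => rw [add_smul, hb, hc, add_zero]
    | smul d b _ hb => rw [smul_eq_mul, mul_smul, hb, smul_zero]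

/-! ### The structure sheaf of the closure of a point -/

variable (x : X)

lemma coe_support_ptIdeal : ((IntMult.ptIdeal x).support : Set X) = closure {x} :=
  Scheme.IdealSheafData.coe_support_vanishingIdeal _

lemma ideal_ptIdeal {V : X.affineOpens} (hx : x ∈ V.1) :
    (IntMult.ptIdeal x).ideal V = (V.2.primeIdealOf ⟨x, hx⟩).asIdeal := by
  obtain ⟨U, hU⟩ := V
  replace hU : IsAffineOpen U := hU
  ext a
  rw [show (IntMult.ptIdeal x).ideal ⟨U, hU⟩ = PrimeSpectrum.vanishingIdeal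
    (hU.fromSpec ⁻¹' closure {x}) from Scheme.IdealSheafData.vanishingIdeal_ideal _ ⟨U, hU⟩,
    PrimeSpectrum.mem_vanishingIdeal]
  constructor
  · refine fun h ↦ h _ ?_
    change hU.fromSpec (hU.primeIdealOf ⟨x, hx⟩) ∈ closure ({x} : Set X)
    exact (hU.fromSpec_primeIdealOf ⟨x, hx⟩).symm ▸ subset_closure rfl
  · intro ha q hq
    have hs : x ⤳ hU.fromSpec q := specializes_iff_mem_closure.mpr hq
    have hs' : hU.fromSpec (hU.primeIdealOf ⟨x, hx⟩) ⤳ hU.fromSpec q :=
      (hU.fromSpec_primeIdealOf ⟨x, hx⟩).symm ▸ hs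
    have hle := (PrimeSpectrum.le_iff_specializes _ _).mpr
      (hU.fromSpec.isOpenEmbedding.isInducing.specializes_iff.mp hs')
    exact hle ha

lemma mem_of_mem_closure {V : X.Opens} {y : X} (hy : y ∈ V) (h : y ∈ closure ({x} : Set X)) :
    x ∈ V :=
  (specializes_iff_mem_closure.mpr h).mem_open V.isOpen hy

lemma primeIdealOf_le_iff {V : X.Opens} (hV : IsAffineOpen V) {y z : X} (hy : y ∈ V) (hz : z ∈ V) :
    (hV.primeIdealOf ⟨y, hy⟩).asIdeal ≤ (hV.primeIdealOf ⟨z, hz⟩).asIdeal ↔ y ⤳ z := by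
  have e := hV.fromSpec.isOpenEmbedding.isInducing.specializes_iff
    (x := hV.primeIdealOf ⟨y, hy⟩) (y := hV.primeIdealOf ⟨z, hz⟩)
  rw [hV.fromSpec_primeIdealOf, hV.fromSpec_primeIdealOf] at e
  exact (PrimeSpectrum.le_iff_specializes _ _).trans e.symm

/-- The generator of the structure sheaf of the closure. -/
def ozGen (V : X.Opens) : Γ(Cyc.closureStructureSheaf x, V) :=
  CycLib.mkPush (IntMult.ptIdeal x).subschemeι (W := V) 1

lemma oz_generates (V : X.affineOpens) (m : Γ(Cyc.closureStructureSheaf x, V.1)) :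
    ∃ r : Γ(X, V.1), r • ozGen x V.1 = m := by
  obtain ⟨r, hr⟩ := (IntMult.ptIdeal x).subschemeι_app_surjective V m
  refine ⟨r, (CycLib.smul_mkPush (IntMult.ptIdeal x).subschemeι r 1).trans ?_⟩
  rw [mul_one, hr]

lemma smul_ozGen_eq_zero_iff (V : X.affineOpens) (r : Γ(X, V.1)) :
    r • ozGen x V.1 = 0 ↔ r ∈ (IntMult.ptIdeal x).ideal V := by
  rw [show r • ozGen x V.1 = CycLib.mkPush (IntMult.ptIdeal x).subschemeι
    ((IntMult.ptIdeal x).subschemeι.app V.1 r * 1) from CycLib.smul_mkPush _ r 1, mul_one,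
    ← (IntMult.ptIdeal x).ker_subschemeι_app V, RingHom.mem_ker]
  rfl

lemma killed_oz : Killed (IntMult.ptIdeal x) (Cyc.closureStructureSheaf x) := fun V a ha m ↦ by
  obtain ⟨r, rfl⟩ := oz_generates x V m
  rw [smul_comm, (smul_ozGen_eq_zero_iff x V a).mpr ha, smul_zero]

lemma support_oz_subset : CohB1.support (Cyc.closureStructureSheaf x) ⊆ closure {x} :=
  (support_subset_of_killed (killed_oz x)).trans (coe_support_ptIdeal x).le

theorem isCoh_oz : Coh.IsCoh (Cyc.closureStructureSheaf x) := by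
  haveI hq : (Cyc.closureStructureSheaf x).IsQuasicoherent :=
    haveI : (Coh.structureModule (IntMult.ptIdeal x).subscheme).IsQuasicoherent :=
      WeakAssSch.isQuasicoherent_unit _
    QCoh.isQuasicoherent_pushforward (IntMult.ptIdeal x).subschemeι (Coh.structureModule _)
  refine ⟨hq, (QCoh.isFiniteType_iff _).mpr fun V hV ↦ ?_⟩
  exact Module.Finite.of_surjective (LinearMap.toSpanSingleton Γ(X, V) _ (ozGen x V))
    (oz_generates x ⟨V, hV⟩)

lemma germ_ozGen_generates (V : X.affineOpens) {y : X} (hy : y ∈ V.1)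
    (t : (Cyc.closureStructureSheaf x).presheaf.stalk y) :
    ∃ (a s : Γ(X, V.1)), IsUnit (X.presheaf.germ V.1 y hy s) ∧
      X.presheaf.germ V.1 y hy s • t = germM _ V.1 y hy (a • ozGen x V.1) := by
  haveI : (Cyc.closureStructureSheaf x).IsQuasicoherent := (isCoh_oz x).1
  obtain ⟨m, s, hs, hst⟩ := CycLib.exists_smul_germ_eq _ V.2 hy t
  obtain ⟨a, rfl⟩ := oz_generates x V m
  exact ⟨a, s, hs, hst⟩

lemma germ_smul_ozGen_eq_zero_iff (V : X.affineOpens) {y : X} (hy : y ∈ V.1) (hx : x ∈ V.1)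
    (hyx : y ∈ closure ({x} : Set X)) (a : Γ(X, V.1)) :
    germM _ V.1 y hy (a • ozGen x V.1) = 0 ↔ a ∈ (IntMult.ptIdeal x).ideal V := by
  haveI : (Cyc.closureStructureSheaf x).IsQuasicoherent := (isCoh_oz x).1
  constructor
  · intro h
    obtain ⟨s, hs, hsa⟩ := CycLib.exists_smul_eq_zero_of_germ_eq_zero _ V.2 hy _ h
    rw [smul_smul, smul_ozGen_eq_zero_iff, ideal_ptIdeal x hx] at hsa
    rw [ideal_ptIdeal x hx]
    refine (V.2.primeIdealOf ⟨x, hx⟩).isPrime.mem_or_mem hsa |>.resolve_left fun h' ↦ ?_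
    refine (CycLib.not_mem_primeIdealOf_iff V.2 hy s).mpr hs ?_
    have hle : (V.2.primeIdealOf ⟨x, hx⟩).asIdeal ≤ (V.2.primeIdealOf ⟨y, hy⟩).asIdeal :=
      (primeIdealOf_le_iff V.2 hx hy).mpr (specializes_iff_mem_closure.mpr hyx)
    exact hle h'
  · intro h
    rw [(smul_ozGen_eq_zero_iff x V a).mpr h]
    exact map_zero ((Cyc.closureStructureSheaf x).presheaf.germ V.1 y hy).hom

/-- The only associated point of `O_Z` is the generic point. -/
theorem eq_of_assoc_oz [IsLocallyNoetherian X] {y : X}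
    (h : Assoc (Cyc.closureStructureSheaf x) y) : y = x := by
  have hyx : y ∈ closure ({x} : Set X) := support_oz_subset x (mem_support_of_assoc h)
  obtain ⟨V, hV, hy, -⟩ := exists_isAffineOpen_mem_and_subset (X := X) (Opens.mem_top y)
  have hx : x ∈ V := mem_of_mem_closure x hy hyx
  obtain ⟨t, ht, hr⟩ := h
  obtain ⟨a, s, hs, hst⟩ := germ_ozGen_generates x ⟨V, hV⟩ hy t
  have ha : a ∉ (IntMult.ptIdeal x).ideal ⟨V, hV⟩ := fun ha ↦ ht (hs.smul_eq_zero.mp
    (hst.trans ((germ_smul_ozGen_eq_zero_iff x ⟨V, hV⟩ hy hx hyx a).mpr ha)))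
  have hle : (hV.primeIdealOf ⟨y, hy⟩).asIdeal ≤ (hV.primeIdealOf ⟨x, hx⟩).asIdeal := by
    intro b hb
    have hbu : ¬ IsUnit (X.presheaf.germ V y hy b) := fun hu ↦
      (CycLib.not_mem_primeIdealOf_iff hV hy b).mpr hu hb
    have h0 : germM _ V y hy ((b * a) • ozGen x V) = 0 := by
      rw [mul_smul, germM_smul, ← hst, smul_comm, hr _ hbu, smul_zero]
    rw [germ_smul_ozGen_eq_zero_iff x ⟨V, hV⟩ hy hx hyx, ideal_ptIdeal x hx] at h0
    rw [ideal_ptIdeal x hx] at ha
    exact ((hV.primeIdealOf ⟨x, hx⟩).isPrime.mem_or_mem h0).resolve_right ha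
  have hs' : y ⤳ x := (primeIdealOf_le_iff hV hy hx).mp hle
  exact (hs'.antisymm (specializes_iff_mem_closure.mpr hyx)).eq

lemma smul_stalk_oz {r : X.presheaf.stalk x} (hr : r ∈ IsLocalRing.maximalIdeal (X.presheaf.stalk x))
    (t : (Cyc.closureStructureSheaf x).presheaf.stalk x) : r • t = 0 := by
  obtain ⟨V, hV, hx, -⟩ := exists_isAffineOpen_mem_and_subset (X := X) (Opens.mem_top x)
  obtain ⟨a, s, hs, hst⟩ := germ_ozGen_generates x ⟨V, hV⟩ hx t
  refine hs.smul_eq_zero.mp ?_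
  rw [smul_comm, hst]
  letI := TopCat.Presheaf.algebra_section_stalk X.presheaf (⟨x, hx⟩ : V)
  haveI := hV.isLocalization_stalk ⟨x, hx⟩
  rw [← IsLocalization.AtPrime.map_eq_maximalIdeal (hV.primeIdealOf ⟨x, hx⟩).asIdeal
    (X.presheaf.stalk x)] at hr
  induction hr using Submodule.span_induction with
  | mem c hc =>
    obtain ⟨b, hb, rfl⟩ := hc
    change X.presheaf.germ V x hx b • _ = 0
    rw [← germM_smul, smul_smul,
      germ_smul_ozGen_eq_zero_iff x ⟨V, hV⟩ hx hx (subset_closure rfl), ideal_ptIdeal x hx]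
    exact Ideal.mul_mem_right _ _ hb
  | zero => exact zero_smul _ _
  | add b c _ _ hb hc => rw [add_smul, hb, hc, add_zero]
  | smul d b _ hb => rw [smul_eq_mul, mul_smul, hb, smul_zero]

theorem length_stalk_oz :
    Module.length (X.presheaf.stalk x) ((Cyc.closureStructureSheaf x).presheaf.stalk x) = 1 := by
  obtain ⟨V, hV, hx, -⟩ := exists_isAffineOpen_mem_and_subset (X := X) (Opens.mem_top x)
  let e : (Cyc.closureStructureSheaf x).presheaf.stalk x := germM _ V x hx (ozGen x V)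
  let φ := LinearMap.toSpanSingleton (X.presheaf.stalk x) _ e
  have hsurj : Function.Surjective φ := fun t ↦ by
    obtain ⟨a, s, hs, hst⟩ := germ_ozGen_generates x ⟨V, hV⟩ hx t
    obtain ⟨u, hu⟩ := hs
    refine ⟨↑u⁻¹ * X.presheaf.germ V x hx a, ?_⟩
    change (↑u⁻¹ * X.presheaf.germ V x hx a) • e = t
    rw [mul_smul, ← germM_smul, ← hst, ← hu, smul_smul, u.inv_mul, one_smul]
  have hne : e ≠ 0 := fun h0 ↦ by
    have := (germ_smul_ozGen_eq_zero_iff x ⟨V, hV⟩ hx hx (subset_closure rfl) 1).mp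
      (by rw [one_smul]; exact h0)
    rw [ideal_ptIdeal x hx] at this
    exact (hV.primeIdealOf ⟨x, hx⟩).isPrime.ne_top ((Ideal.eq_top_iff_one _).mpr this)
  have hker : LinearMap.ker φ = IsLocalRing.maximalIdeal (X.presheaf.stalk x) :=
    ((IsLocalRing.maximalIdeal.isMaximal _).eq_of_le
      (fun h ↦ hne (by simpa [φ] using (LinearMap.mem_ker.mp
        (h ▸ Submodule.mem_top : (1 : X.presheaf.stalk x) ∈ LinearMap.ker φ))))
      (fun r hr ↦ LinearMap.mem_ker.mpr (smul_stalk_oz x hr e))).symm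
  rw [← ((Submodule.quotEquivOfEq _ _ hker.symm).trans
    (φ.quotKerEquivOfSurjective hsurj)).length_eq, Module.length_eq_one_iff,
    isSimpleModule_iff_isCoatom]
  exact (IsLocalRing.maximalIdeal.isMaximal _).out

end Groth.Agent.CohDev
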