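import Groth.Agent.CohDev.Piece
import Groth.Agent.Props.SubExt
import Mathlib.CategoryTheory.Abelian.Refinements
import Mathlib.Topology.NoetherianSpace

/-!
Dévissage of coherent modules: every nonzero coherent module contains a nonzero submodule which is
isomorphic to a submodule of the structure sheaf of the closure of one of its associated points.
-/

universe u

open CategoryTheory Limits AlgebraicGeometry Opposite TopologicalSpace

noncomputable section

namespace Groth.Agent.CohDev

open Groth.Agent.PullStalk.Sky Groth.Agent.PullStalk.Exact Groth.Agent.Props.SubMod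
  Groth.Agent.Props.SubSheaf

variable {X : Scheme.{u}}

lemma stalkLin_comp_apply {A B C : X.Modules} (f : A ⟶ B) (g : B ⟶ C) (x : X)
    (t : A.presheaf.stalk x) : stalkLin (f ≫ g) x t = stalkLin g x (stalkLin f x t) := by
  obtain ⟨W, hxW, m, rfl⟩ := exists_germM_eq A x t
  rw [stalkLin_germ, stalkLin_germ, stalkLin_germ]
  rfl

lemma stalkLin_zero_apply {A B : X.Modules} (x : X) (t : A.presheaf.stalk x) :
    stalkLin (0 : A ⟶ B) x t = 0 := by
  obtain ⟨W, hxW, m, rfl⟩ := exists_germM_eq A x t
  rw [stalkLin_germ]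
  exact map_zero (B.presheaf.germ W x hxW).hom

lemma stalkLin_add_apply {A B : X.Modules} (f g : A ⟶ B) (x : X) (t : A.presheaf.stalk x) :
    stalkLin (f + g) x t = stalkLin f x t + stalkLin g x t := by
  obtain ⟨W, hxW, m, rfl⟩ := exists_germM_eq A x t
  rw [stalkLin_germ, stalkLin_germ, stalkLin_germ]
  exact map_add (B.presheaf.germ W x hxW).hom _ _

lemma stalkLin_id_apply {A : X.Modules} (x : X) (t : A.presheaf.stalk x) :
    stalkLin (𝟙 A) x t = t := by
  obtain ⟨W, hxW, m, rfl⟩ := exists_germM_eq A x t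
  rw [stalkLin_germ]
  rfl

/-- A stalk element killed by the germs of the prime of the point is killed by the maximal ideal. -/
lemma smul_eq_zero_of_prime {M : X.Modules} {V : X.Opens} (hV : IsAffineOpen V) {x : X} (hx : x ∈ V)
    {t : M.presheaf.stalk x}
    (h : ∀ a ∈ (hV.primeIdealOf ⟨x, hx⟩).asIdeal, X.presheaf.germ V x hx a • t = 0)
    {r : X.presheaf.stalk x} (hr : r ∈ IsLocalRing.maximalIdeal (X.presheaf.stalk x)) :
    r • t = 0 := by
  letI := TopCat.Presheaf.algebra_section_stalk X.presheaf (⟨x, hx⟩ : V)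
  haveI := hV.isLocalization_stalk ⟨x, hx⟩
  rw [← IsLocalization.AtPrime.map_eq_maximalIdeal (hV.primeIdealOf ⟨x, hx⟩).asIdeal
    (X.presheaf.stalk x)] at hr
  induction hr using Submodule.span_induction with
  | mem c hc => obtain ⟨b, hb, rfl⟩ := hc; exact h b hb
  | zero => exact zero_smul _ _
  | add b c _ _ hb hc => rw [add_smul, hb, hc, add_zero]
  | smul d b _ hb => rw [smul_eq_mul, mul_smul, hb, smul_zero]

/-- A nonzero stalk element at a point puts the point in the support. -/
lemma mem_support_of_ne_zero {M : X.Modules} {x : X} {t : M.presheaf.stalk x} (h : t ≠ 0) :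
    x ∈ CohB1.support M := fun hs ↦ h (@Subsingleton.elim _ hs _ _)

variable [IsNoetherian X]

/-- A nonzero coherent module contains a nonzero submodule which is also a submodule of the
structure sheaf of the closure of a point of its support. -/
theorem exists_piece {N : X.Modules} (hN : Coh.IsCoh N) (h : ¬ IsZero N) :
    ∃ (x : X) (J : X.Modules) (f : J ⟶ N) (g : J ⟶ Cyc.closureStructureSheaf x),
      Mono f ∧ Mono g ∧ Coh.IsCoh J ∧ x ∈ CohB1.support J := by
  haveI : N.IsQuasicoherent := hN.1
  let 𝒮 : Set (Closeds X) := {Z | ∃ y, Assoc N y ∧ (Z : Set X) = closure {y}}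
  obtain ⟨y₀, hy₀⟩ := exists_assoc hN h
  haveI : NoetherianSpace X := inferInstance
  obtain ⟨Z, ⟨x, hxN, hZ⟩, hmin⟩ := (wellFounded_lt (α := Closeds X)).has_min 𝒮
    ⟨⟨closure {y₀}, isClosed_closure⟩, y₀, hy₀, rfl⟩
  -- no other associated point in the closure
  have huniq : ∀ y, Assoc N y → y ∈ closure ({x} : Set X) → y = x := by
    intro y hy hyx
    let Z' : Closeds X := ⟨closure {y}, isClosed_closure⟩
    have hle : Z' ≤ Z := fun z hz ↦ (Set.ext_iff.mp hZ z).mpr
      (closure_minimal (Set.singleton_subset_iff.mpr hyx) isClosed_closure hz)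
    have heq : Z' = Z := eq_of_le_of_not_lt hle (hmin Z' ⟨y, hy, rfl⟩)
    have hxy : x ∈ closure ({y} : Set X) := by
      change x ∈ (Z' : Set X)
      rw [heq, hZ]
      exact subset_closure rfl
    exact ((specializes_iff_mem_closure.mpr hxy).antisymm
      (specializes_iff_mem_closure.mpr hyx)).eq
  let I := IntMult.ptIdeal x
  let A := killSub I N
  have hA : Coh.IsCoh A := isCoh_killSub hN
  have hAsupp : CohB1.support A ⊆ closure {x} :=
    (support_subset_of_killed (killed_killSub hN)).trans (coe_support_ptIdeal x).le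
  obtain ⟨V, hV, hx, -⟩ := exists_isAffineOpen_mem_and_subset (X := X) (Opens.mem_top x)
  obtain ⟨t, ht, htm⟩ := hxN
  have htk : t ∈ killFam I N x := by
    intro W hxW a ha
    refine htm _ fun hu ↦ ?_
    rw [ideal_ptIdeal x hxW] at ha
    exact (CycLib.not_mem_primeIdealOf_iff W.2 hxW a).mpr hu ha
  obtain ⟨m, hm, hmne⟩ : ∃ m ∈ killSec I N ⟨V, hV⟩, germM N V x hx m ≠ 0 := by
    by_contra hcon
    push Not at hcon
    refine ht ?_
    rw [genBy_killSec ⟨V, hV⟩ x hx] at htk
    refine (Submodule.mem_bot (X.presheaf.stalk x)).mp ((Submodule.span_le.mpr ?_) htk)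
    rintro _ ⟨m, hm, rfl⟩
    exact hcon m hm
  obtain ⟨mA, hmA⟩ := (mem_range_incl (killFam I N) m).mpr fun y hy ↦
    germ_mem_killFam (V := ⟨V, hV⟩) hm hy
  let P := Cyc.closureStructureSheaf x
  have hP : Coh.IsCoh P := isCoh_oz x
  let B := A ⊞ P
  have hB : Coh.IsCoh B := isCoh_biprod hA hP
  haveI : B.IsQuasicoherent := hB.1
  let e : Γ(B, V) := (biprod.inl : A ⟶ B).app V mA + (biprod.inr : P ⟶ B).app V (ozGen x V)
  have hfst : (biprod.fst : B ⟶ A).app V e = mA := by
    simp only [e, map_add]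
    rw [← ConcreteCategory.comp_apply, ← ConcreteCategory.comp_apply,
      ← Scheme.Modules.Hom.comp_app, ← Scheme.Modules.Hom.comp_app, biprod.inl_fst, biprod.inr_fst]
    exact add_zero mA
  classical
  let S₀ : StalkSub B := fun y ↦ if hy : y ∈ V then spanGerm ({e} : Set Γ(B, V)) y hy else ⊥
  have hS₀ : GenBy S₀ V ({e} : Set Γ(B, V)) := fun y hy ↦ dif_pos hy
  obtain ⟨S, hS, hSV, -⟩ := exists_global hV.isCompact
    (show FTOn S₀ V from fun y hy ↦ ⟨V, hV, hy, le_rfl, {e}, by rwa [Finset.coe_singleton]⟩)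
  let G := sub S
  have hG : Coh.IsCoh G := ⟨isQuasicoherent_sub hS, isFiniteType_sub hS⟩
  obtain ⟨eG, heG⟩ := (mem_range_incl S e).mpr fun y hy ↦ by
    rw [hSV y hy, hS₀ y hy]; exact Submodule.subset_span ⟨e, rfl, rfl⟩
  let a := germM A V x hx mA
  let o := germM P V x hx (ozGen x V)
  have ha : a ≠ 0 := fun h0 ↦ hmne (by
    rw [← hmA, ← stalkLin_germ (incl (killFam I N)) V x hx mA]
    exact (congrArg _ h0).trans (map_zero _))
  have hon : o ≠ 0 := fun h0 ↦ by
    have := (germ_smul_ozGen_eq_zero_iff x ⟨V, hV⟩ hx hx (subset_closure rfl) 1).mp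
      (by rw [one_smul]; exact h0)
    rw [ideal_ptIdeal x hx] at this
    exact (hV.primeIdealOf ⟨x, hx⟩).isPrime.ne_top ((Ideal.eq_top_iff_one _).mpr this)
  have hra : ∀ r ∈ IsLocalRing.maximalIdeal (X.presheaf.stalk x), r • a = 0 := fun r hr ↦ by
    refine smul_eq_zero_of_prime hV hx (fun b hb ↦ ?_) hr
    rw [← germM_smul, killed_killSub hN ⟨V, hV⟩ b (by rwa [ideal_ptIdeal x hx]) mA]
    exact map_zero (A.presheaf.germ V x hx).hom
  let p₁ : G ⟶ A := incl S ≫ biprod.fst
  let p₂ : G ⟶ P := incl S ≫ biprod.snd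
  have hGx : ∀ k : G.presheaf.stalk x, stalkLin p₁ x k = 0 ∨ stalkLin p₂ x k = 0 → k = 0 := by
    intro k hk
    obtain ⟨W, hxW, w, rfl⟩ := exists_germM_eq G x k
    have hmem := (mem_range_incl S _).mp ⟨w, rfl⟩ x hxW
    rw [hSV x hx, hS₀ x hx, spanGerm, Set.image_singleton, Submodule.mem_span_singleton] at hmem
    obtain ⟨r, hr⟩ := hmem
    have hee : germM B V x hx e =
        stalkLin (biprod.inl : A ⟶ B) x a + stalkLin (biprod.inr : P ⟶ B) x o := by
      rw [stalkLin_germ, stalkLin_germ]
      exact map_add (B.presheaf.germ V x hx).hom _ _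
    have h1 : ∀ {C : X.Modules} (q : B ⟶ C), stalkLin (incl S ≫ q) x (germM G W x hxW w) =
        r • (stalkLin (biprod.inl ≫ q) x a + stalkLin (biprod.inr ≫ q) x o) := fun q ↦ by
      rw [stalkLin_comp_apply, stalkLin_germ, ← hr, map_smul, hee, map_add,
        ← stalkLin_comp_apply, ← stalkLin_comp_apply]
    have hrm : r ∈ IsLocalRing.maximalIdeal (X.presheaf.stalk x) := by
      intro hu
      rcases hk with hk | hk
      · rw [h1, biprod.inl_fst, biprod.inr_fst, stalkLin_id_apply, stalkLin_zero_apply,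
          add_zero] at hk
        exact ha (hu.smul_eq_zero.mp hk)
      · rw [h1, biprod.inl_snd, biprod.inr_snd, stalkLin_id_apply, stalkLin_zero_apply,
          zero_add] at hk
        exact hon (hu.smul_eq_zero.mp hk)
    refine stalk_injective (incl S) x ?_
    rw [map_zero, stalkLin_germ, ← hr, hee, smul_add,
      ← (stalkLin (biprod.inl : A ⟶ B) x).map_smul, ← (stalkLin (biprod.inr : P ⟶ B) x).map_smul,
      hra r hrm,
      smul_stalk_oz x hrm o, map_zero, map_zero, add_zero]
  have hker : ∀ {C D : X.Modules} (p : G ⟶ C) (q : G ⟶ D),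
      (∀ k, stalkLin p x k = 0 → k = 0) → (∀ K : X.Modules, ∀ i : K ⟶ D, Mono i →
        ∀ y, Assoc K y → y = x) → Coh.IsQCoh C →
      (∀ (T : X.Modules) (k : T ⟶ G), k ≫ p = 0 → k ≫ q = 0 → k = 0) → Mono p := by
    intro C D p q hp hD hC hpq
    refine Preadditive.mono_of_kernel_zero ?_
    have hK : Coh.IsCoh (kernel p) := isCoh_kernel p hG hC
    have hm : Mono (kernel.ι p ≫ q) := Preadditive.mono_of_cancel_zero _ fun {T} k hk ↦ by
      rw [← cancel_mono (kernel.ι p), zero_comp]
      exact hpq T _ (by rw [Category.assoc, kernel.condition, comp_zero])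
        (by rw [Category.assoc]; exact hk)
    have hz : IsZero (kernel p) := by
      by_contra hn
      obtain ⟨y, hy⟩ := exists_assoc hK hn
      obtain rfl := hD _ (kernel.ι p ≫ q) hm y hy
      obtain ⟨s, hs, -⟩ := hy
      refine hs (stalk_injective (kernel.ι p) _ ((hp _ ?_).trans (map_zero _).symm))
      rw [← stalkLin_comp_apply, kernel.condition, stalkLin_zero_apply]
    exact hz.eq_of_src _ _
  have hjoint : ∀ (T : X.Modules) (k : T ⟶ G), k ≫ p₁ = 0 → k ≫ p₂ = 0 → k = 0 := by
    intro T k h1 h2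
    rw [← cancel_mono (incl S), zero_comp]
    refine biprod.hom_ext _ _ ?_ ?_
    · simpa [p₁] using h1
    · simpa [p₂] using h2
  have hAy : ∀ K : X.Modules, ∀ i : K ⟶ A, Mono i → ∀ y, Assoc K y → y = x := fun K i _ y hy ↦
    huniq y (assoc_of_mono (incl _) (assoc_of_mono i hy))
      (hAsupp (mem_support_of_assoc (assoc_of_mono i hy)))
  have hPy : ∀ K : X.Modules, ∀ i : K ⟶ P, Mono i → ∀ y, Assoc K y → y = x := fun K i _ y hy ↦
    eq_of_assoc_oz x (assoc_of_mono i hy)
  haveI hp₁ : Mono p₁ := hker p₁ p₂ (fun k hk ↦ hGx k (.inl hk)) hPy hA.1 hjoint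
  haveI hp₂ : Mono p₂ := hker p₂ p₁ (fun k hk ↦ hGx k (.inr hk)) hAy hP.1
    fun T k h1 h2 ↦ hjoint T k h2 h1
  refine ⟨x, G, p₁ ≫ incl _, p₂, mono_comp _ _, hp₂, hG,
    mem_support_of_ne_zero (t := germM G V x hx eG) fun h0 ↦ ha ?_⟩
  have h1 : stalkLin p₁ x (germM G V x hx eG) = a := by
    rw [stalkLin_germ]
    refine congrArg (germM A V x hx) ?_
    rw [Scheme.Modules.Hom.comp_app, ConcreteCategory.comp_apply, heG, hfst]
  rw [← h1, h0, map_zero]

/-- Dévissage: a property of coherent modules stable under extensions holds for all of them as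
soon as it holds for zero modules and every nonzero coherent module has a nonzero coherent
submodule with the property. -/
theorem devissage (P : X.Modules → Prop) (h0 : ∀ M, IsZero M → P M)
    (hext : ∀ S : ShortComplex X.Modules, S.ShortExact → Coh.IsCoh S.X₁ → Coh.IsCoh S.X₂ →
      Coh.IsCoh S.X₃ → P S.X₁ → P S.X₃ → P S.X₂)
    (hstep : ∀ M, Coh.IsCoh M → ¬ IsZero M →
      ∃ (A : X.Modules) (a : A ⟶ M), Mono a ∧ Coh.IsCoh A ∧ ¬ IsZero A ∧ P A)
    {M : X.Modules} (hM : Coh.IsCoh M) : P M := by
  let M' : QCohCat.QCoh X := ⟨M, hM.1⟩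
  haveI := QCohGen.Noeth.isNoetherianObject_of_isCoh M' hM
  let 𝒮 : Set (Subobject M') := {T | Coh.IsCoh (T : QCohCat.QCoh X).obj ∧ P (T : QCohCat.QCoh X).obj}
  have hne : 𝒮.Nonempty := by
    refine ⟨⊥, ?_⟩
    have hz : IsZero ((⊥ : Subobject M') : QCohCat.QCoh X).obj :=
      (QCohCat.isQCoh X).ι.map_isZero ((isZero_zero _).of_iso Subobject.botCoeIsoZero)
    exact ⟨isCoh_of_isZero hz, h0 _ hz⟩
  obtain ⟨T, ⟨hTc, hTP⟩, hmax⟩ := WellFounded.has_min (r := (· > ·)) wellFounded_gt 𝒮 hne
  let i : (T : QCohCat.QCoh X).obj ⟶ M := T.arrow.hom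
  haveI : Mono i := inferInstanceAs (Mono ((QCohCat.isQCoh X).ι.map T.arrow))
  by_cases hC : IsZero (cokernel i)
  · have : Epi i := Preadditive.epi_of_cokernel_zero (hC.eq_of_tgt _ _)
    have := isIso_of_mono_of_epi i
    let S := ShortComplex.mk i (0 : M ⟶ cokernel i) (by simp)
    exact hext S { exact := S.exact_of_g_is_cokernel
                    (IsColimit.ofIsoColimit (cokernelIsCokernel i)
                      (Cofork.ext (Iso.refl _) (hC.eq_of_tgt _ _)))
                   mono_f := inferInstance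
                   epi_g := ⟨fun _ _ _ ↦ hC.eq_of_src _ _⟩ }
      hTc hM (isCoh_of_isZero hC) hTP (h0 _ hC)
  · exfalso
    have hCc := isCoh_cokernel i hTc.1 hM
    obtain ⟨A, a, ha, hAc, hAz, hAP⟩ := hstep _ hCc hC
    let π := cokernel.π i
    let K := kernel (π ≫ cokernel.π a)
    let ι : K ⟶ M := kernel.ι _
    have hK : Coh.IsCoh K := isCoh_kernel _ hM (isCoh_cokernel a hAc.1 hCc).1
    let f : (T : QCohCat.QCoh X).obj ⟶ K :=
      kernel.lift _ i (by rw [← Category.assoc, cokernel.condition, zero_comp])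
    have hf : f ≫ ι = i := kernel.lift_ι _ _ _
    haveI : Mono (f ≫ ι) := hf.symm ▸ inferInstance
    haveI : Mono f := mono_of_mono f ι
    let g : K ⟶ A := Abelian.monoLift a (ι ≫ π) (by rw [Category.assoc]; exact kernel.condition _)
    have hg : g ≫ a = ι ≫ π := Abelian.monoLift_comp _ _ _
    have w : f ≫ g = 0 := by
      rw [← cancel_mono a, Category.assoc, hg, ← Category.assoc, hf, cokernel.condition, zero_comp]
    have hS : (ShortComplex.mk f g w).ShortExact :=
      { exact := by
          rw [ShortComplex.exact_iff_exact_up_to_refinements]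
          intro Z k hk
          dsimp at hk ⊢
          have hk' : (k ≫ ι) ≫ π = 0 := by rw [Category.assoc, ← hg, reassoc_of% hk, zero_comp]
          refine ⟨Z, 𝟙 Z, inferInstance, Abelian.monoLift i (k ≫ ι) hk', ?_⟩
          rw [← cancel_mono ι, Category.id_comp, Category.assoc, hf, Abelian.monoLift_comp]
        mono_f := ‹_›
        epi_g := by
          dsimp
          rw [epi_iff_surjective_up_to_refinements]
          intro Z z
          obtain ⟨Z', e, he, m, hm⟩ := surjective_up_to_refinements_of_epi π (z ≫ a)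
          refine ⟨Z', e, he, kernel.lift _ m (by
            rw [← Category.assoc, ← hm, Category.assoc, Category.assoc, cokernel.condition,
              comp_zero, comp_zero]), ?_⟩
          rw [← cancel_mono a, Category.assoc, Category.assoc, hg, kernel.lift_ι_assoc, hm] }
    let K' : QCohCat.QCoh X := ⟨K, hK.1⟩
    let ι' : K' ⟶ M' := ObjectProperty.homMk ι
    haveI : Mono ι' := (QCohCat.isQCoh X).ι.mono_of_mono_map (inferInstanceAs (Mono ι))
    have hle : T ≤ Subobject.mk ι' :=
      Subobject.le_mk_of_comm (ObjectProperty.homMk f) (ObjectProperty.hom_ext _ hf)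
    let e := (QCohCat.isQCoh X).ι.mapIso (Subobject.underlyingIso ι')
    have hmem : Subobject.mk ι' ∈ 𝒮 := by
      refine ⟨isCoh_of_iso e.symm hK, ?_⟩
      let g' := e.hom ≫ g
      let S' := ShortComplex.mk (f ≫ e.inv) g'
        (by simp only [g', Category.assoc, e.inv_hom_id_assoc, w])
      let φ : ShortComplex.mk f g w ≅ S' := ShortComplex.isoMk (Iso.refl _) e.symm (Iso.refl _)
        (Category.id_comp _) ((e.inv_hom_id_assoc g).trans (Category.comp_id g).symm)
      exact hext S' (ShortComplex.shortExact_of_iso φ hS) hTc (isCoh_of_iso e.symm hK) hAc hTP hAP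
    rcases hle.lt_or_eq with hlt | heq
    · exact hmax _ hmem hlt
    · apply hAz
      have hfe : IsIso f := by
        have hh : Subobject.ofLE _ _ heq.ge ≫ T.arrow = (Subobject.mk ι').arrow :=
          Subobject.ofLE_arrow _
        let u : K ⟶ (T : QCohCat.QCoh X).obj := e.inv ≫ (Subobject.ofLE _ _ heq.ge).hom
        refine ⟨u, ?_, ?_⟩
        · rw [← cancel_mono i]
          have h3 : (Subobject.ofLE _ _ heq.ge).hom ≫ i = (Subobject.mk ι').arrow.hom :=
            congrArg InducedCategory.Hom.hom hh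
          have h4 : e.inv ≫ (Subobject.mk ι').arrow.hom = ι :=
            congrArg InducedCategory.Hom.hom (Subobject.underlyingIso_arrow ι')
          simp only [u, Category.assoc, h3, h4, hf, Category.id_comp]
        · rw [← cancel_mono ι]
          have h3 : (Subobject.ofLE _ _ heq.ge).hom ≫ i = (Subobject.mk ι').arrow.hom :=
            congrArg InducedCategory.Hom.hom hh
          have h4 : e.inv ≫ (Subobject.mk ι').arrow.hom = ι :=
            congrArg InducedCategory.Hom.hom (Subobject.underlyingIso_arrow ι')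
          simp only [u, Category.assoc, hf, h3, h4, Category.id_comp]
      have hg0 : g = 0 := by rw [← cancel_epi f, w, comp_zero]
      haveI := hS.epi_g
      exact IsZero.of_epi_eq_zero g hg0

end Groth.Agent.CohDev
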