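import Groth.Agent.CohDev.Gen
import Groth.Agent.ScSupp.Basic
import Groth.Agent.KFlat.StalkFlat
import Groth.Agent.CycLib.PushStalk
import Groth.Prelude.Def_Dual3
import Mathlib.RingTheory.Filtration

/-!
Artin–Rees on a Noetherian scheme, and dévissage by extensions only.
-/

universe u

open CategoryTheory Limits AlgebraicGeometry Opposite TopologicalSpace
open scoped Pointwise

noncomputable section

namespace Groth.Agent.CohDev

open Groth.Agent.PullStalk.Sky Groth.Agent.PullStalk.Exact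

variable {X : Scheme.{u}}

/-- The kernel of a base change along a surjection. -/
lemma mem_ker_smul_top_of_baseChange {R S M N : Type u} [CommRing R] [CommRing S] [Algebra R S]
    [AddCommGroup M] [Module R M] [AddCommGroup N] [Module R N] [Module S N] [IsScalarTower R S N]
    {φ : M →ₗ[R] N} (h : IsBaseChange S φ) (hS : Function.Surjective (algebraMap R S))
    {m : M} (hm : φ m = 0) :
    m ∈ (RingHom.ker (algebraMap R S)) • (⊤ : Submodule R M) := by
  let Q := M ⧸ (RingHom.ker (algebraMap R S)) • (⊤ : Submodule R M)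
  have hk : ∀ r ∈ RingHom.ker (algebraMap R S), ∀ q : Q, r • q = 0 := fun r hr q ↦ by
    obtain ⟨q, rfl⟩ := Submodule.Quotient.mk_surjective _ q
    rw [← Submodule.Quotient.mk_smul, Submodule.Quotient.mk_eq_zero]
    exact Submodule.smul_mem_smul hr trivial
  letI : SMul S Q := ⟨fun s q ↦ (hS s).choose • q⟩
  have key : ∀ (r : R) (q : Q), algebraMap R S r • q = r • q := fun r q ↦ by
    change (hS (algebraMap R S r)).choose • q = r • q
    rw [← sub_eq_zero, ← sub_smul]
    exact hk _ (by rw [RingHom.mem_ker, map_sub, (hS (algebraMap R S r)).choose_spec, sub_self]) q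
  letI : Module S Q := Function.Surjective.moduleLeft (algebraMap R S) hS key
  haveI : IsScalarTower R S Q := IsScalarTower.of_algebraMap_smul key
  rw [← Submodule.Quotient.mk_eq_zero]
  have h1 := h.lift_eq (Submodule.mkQ _ : M →ₗ[R] Q) m
  rw [hm, map_zero] at h1
  exact h1.symm

/-- The kernel of the unit of a closed subscheme, on stalks. -/
lemma mem_smul_of_unit_eq_zero (J : X.IdealSheafData) (G : X.Modules) {W : X.Opens}
    (hW : IsAffineOpen W) {y : X} (hy : y ∈ W) (t : G.presheaf.stalk y)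
    (ht : stalkLin ((Scheme.Modules.pullbackPushforwardAdjunction J.subschemeι).unit.app G) y t = 0) :
    t ∈ ((J.ideal ⟨W, hW⟩).map (X.presheaf.germ W y hy).hom) •
      (⊤ : Submodule (X.presheaf.stalk y) (G.presheaf.stalk y)) := by
  by_cases hyJ : y ∈ Set.range J.subschemeι
  · obtain ⟨z, rfl⟩ := hyJ
    let i := J.subschemeι
    letI := (i.stalkMap z).hom.toAlgebra
    letI := PullStalk.Basic.moduleOver i G z
    haveI : IsScalarTower (X.presheaf.stalk (i z)) (J.subscheme.presheaf.stalk z)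
        (((Scheme.Modules.pullback i).obj G).presheaf.stalk z) :=
      IsScalarTower.of_algebraMap_smul fun _ _ => rfl
    have h0 : PullStalk.Basic.unitStalkHom i G z t = 0 := by
      rw [← ClUnit.stalkPushforward_unit i G z t]
      exact (congrArg _ ht).trans (map_zero _)
    have h1 := mem_ker_smul_top_of_baseChange (PullStalk.Basic.isBaseChange_unitStalk i G z)
      (i.stalkMap_surjective z) h0
    refine (Submodule.smul_mono_left ?_) h1
    intro r hr
    letI := TopCat.Presheaf.algebra_section_stalk X.presheaf (⟨i z, hy⟩ : W)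
    haveI := hW.isLocalization_stalk ⟨i z, hy⟩
    obtain ⟨⟨a, s⟩, has⟩ := IsLocalization.surj
      (hW.primeIdealOf ⟨i z, hy⟩).asIdeal.primeCompl r
    have hsu : IsUnit (X.presheaf.germ W (i z) hy s.1) :=
      IsLocalization.map_units (X.presheaf.stalk (i z)) s
    have ha : X.presheaf.germ W (i z) hy a ∈ RingHom.ker (i.stalkMap z).hom := by
      rw [show X.presheaf.germ W (i z) hy a = r * X.presheaf.germ W (i z) hy s.1 from has.symm]
      exact Ideal.mul_mem_right _ _ hr
    rw [← CycLib.toPushStalk_ker i z, LinearMap.mem_ker, CycLib.toPushStalk_germ] at ha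
    haveI : ((Coh.push i).obj (Coh.structureModule J.subscheme)).IsQuasicoherent := by
      haveI := WeakAssSch.isQuasicoherent_unit J.subscheme
      exact QCoh.isQuasicoherent_pushforward i (Coh.structureModule _)
    obtain ⟨s', hs', hs'a⟩ := CycLib.exists_smul_eq_zero_of_germ_eq_zero _ hW hy _ ha
    have hmem : s' * a ∈ J.ideal ⟨W, hW⟩ := by
      rw [← J.ker_subschemeι_app ⟨W, hW⟩, RingHom.mem_ker, map_mul]
      exact hs'a
    have h2 := Ideal.mem_map_of_mem (X.presheaf.germ W (i z) hy).hom hmem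
    rw [map_mul] at h2
    have h3 := (Ideal.unit_mul_mem_iff_mem _ hs').mp h2
    rw [show (X.presheaf.germ W (i z) hy).hom a = r * X.presheaf.germ W (i z) hy s.1 from has.symm]
      at h3
    exact (Ideal.mul_unit_mem_iff_mem _ hsu).mp h3
  · rw [Scheme.IdealSheafData.range_subschemeι] at hyJ
    have hns : y ∉ X.zeroLocus (U := W) (J.ideal ⟨W, hW⟩ : Set Γ(X, W)) := fun hz ↦
      hyJ (((Set.ext_iff.mp (J.coe_support_inter ⟨W, hW⟩) y).mpr ⟨hz, hy⟩).1)
    rw [Scheme.mem_zeroLocus_iff] at hns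
    push Not at hns
    obtain ⟨a, ha, hya⟩ := hns
    have : (J.ideal ⟨W, hW⟩).map (X.presheaf.germ W y hy).hom = ⊤ :=
      Ideal.eq_top_of_isUnit_mem _ (Ideal.mem_map_of_mem _ ha) ((X.mem_basicOpen a y hy).mp hya)
    rw [this, Submodule.top_smul]
    trivial

/-- Elements of `I G_y` come from `I Γ(W, G)`. -/
lemma exists_smul_mem_of_mem {G : X.Modules} [G.IsQuasicoherent] {W : X.Opens} (hW : IsAffineOpen W)
    {y : X} (hy : y ∈ W) (I : Ideal Γ(X, W)) {t : G.presheaf.stalk y}
    (ht : t ∈ (I.map (X.presheaf.germ W y hy).hom) •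
      (⊤ : Submodule (X.presheaf.stalk y) (G.presheaf.stalk y))) :
    ∃ (m : Γ(G, W)) (s : Γ(X, W)), m ∈ I • (⊤ : Submodule Γ(X, W) Γ(G, W)) ∧
      IsUnit (X.presheaf.germ W y hy s) ∧ X.presheaf.germ W y hy s • t = germM G W y hy m := by
  have hadd : ∀ t t' : G.presheaf.stalk y,
      (∃ (m : Γ(G, W)) (s : Γ(X, W)), m ∈ I • (⊤ : Submodule Γ(X, W) Γ(G, W)) ∧
        IsUnit (X.presheaf.germ W y hy s) ∧ X.presheaf.germ W y hy s • t = germM G W y hy m) →
      (∃ (m : Γ(G, W)) (s : Γ(X, W)), m ∈ I • (⊤ : Submodule Γ(X, W) Γ(G, W)) ∧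
        IsUnit (X.presheaf.germ W y hy s) ∧ X.presheaf.germ W y hy s • t' = germM G W y hy m) →
      (∃ (m : Γ(G, W)) (s : Γ(X, W)), m ∈ I • (⊤ : Submodule Γ(X, W) Γ(G, W)) ∧
        IsUnit (X.presheaf.germ W y hy s) ∧ X.presheaf.germ W y hy s • (t + t') = germM G W y hy m) := by
    rintro t t' ⟨m, s, hm, hs, h⟩ ⟨m', s', hm', hs', h'⟩
    refine ⟨s' • m + s • m', s * s', add_mem (Submodule.smul_mem _ _ hm) (Submodule.smul_mem _ _ hm'),
      by rw [map_mul]; exact hs.mul hs', ?_⟩
    rw [show germM G W y hy (s' • m + s • m') = germM G W y hy (s' • m) + germM G W y hy (s • m') from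
      map_add (G.presheaf.germ W y hy).hom _ _, germM_smul, germM_smul, ← h, ← h', map_mul, smul_add,
      smul_smul, smul_smul]
    rw [mul_comm (X.presheaf.germ W y hy s') (X.presheaf.germ W y hy s)]
  refine Submodule.smul_induction_on ht (fun c hc n _ ↦ ?_) hadd
  induction hc using Submodule.span_induction generalizing n with
  | mem c hc =>
    obtain ⟨a, ha, rfl⟩ := hc
    obtain ⟨m, s, hs, hst⟩ := CycLib.exists_smul_germ_eq G hW hy n
    exact ⟨a • m, s, Submodule.smul_mem_smul ha trivial, hs, by rw [smul_comm, hst, germM_smul]⟩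
  | zero =>
    refine ⟨0, 1, zero_mem _, by rw [map_one]; exact isUnit_one, ?_⟩
    rw [zero_smul, smul_zero]
    exact (map_zero (G.presheaf.germ W y hy).hom).symm
  | add b c _ _ hb hc => rw [add_smul]; exact hadd _ _ (hb n trivial) (hc n trivial)
  | smul d b _ hb => rw [smul_eq_mul, mul_comm, mul_smul]; exact hb (d • n) trivial

variable [IsNoetherian X]

lemma killed_annIdeal {M : X.Modules} (hM : Coh.IsCoh M) :
    Killed (@ScSupp.annIdeal X M hM.1 hM.2) M := fun _ _ ha m ↦ Module.mem_annihilator.mp ha m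

/-- Artin–Rees: a high power of an ideal killing `K` meets `K` in zero. -/
theorem exists_pow_mono_unit {K G : X.Modules} (f : K ⟶ G) [Mono f] (hK : Coh.IsCoh K)
    (hG : Coh.IsCoh G) (I : X.IdealSheafData) (hI : Killed I K) :
    ∃ n : ℕ, Mono (f ≫ (Scheme.Modules.pullbackPushforwardAdjunction
      (I ^ (n + 1)).subschemeι).unit.app G) := by
  haveI : G.IsQuasicoherent := hG.1
  haveI : K.IsQuasicoherent := hK.1
  obtain ⟨σ, hσ⟩ := isCompact_univ.elim_finite_subcover
    (fun W : X.affineOpens => ((W : X.Opens) : Set X)) (fun W => (W : X.Opens).isOpen) fun x _ => by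
      obtain ⟨W, hW, hx, -⟩ := exists_isAffineOpen_mem_and_subset (X := X) (Opens.mem_top x)
      exact Set.mem_iUnion.mpr ⟨⟨W, hW⟩, hx⟩
  have hAR : ∀ W : X.affineOpens, ∃ k : ℕ, ∀ n > k,
      (I.ideal W) ^ n • (⊤ : Submodule Γ(X, W.1) Γ(G, W.1)) ⊓ LinearMap.range (appLin f W.1) = ⊥ := by
    intro W
    have := IsLocallyNoetherian.component_noetherian W
    have := finite_sections hG W.2
    obtain ⟨k, hk⟩ := (I.ideal W).exists_pow_inf_eq_pow_smul (LinearMap.range (appLin f W.1))
    refine ⟨k, fun n hn ↦ eq_bot_iff.mpr ?_⟩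
    rw [hk n hn.le]
    refine Submodule.smul_le.mpr fun a ha m hm ↦ ?_
    obtain ⟨u, rfl⟩ := hm.2
    have ha' : a ∈ I.ideal W := Ideal.pow_le_self (by omega) ha
    rw [Submodule.mem_bot, ← map_smul, hI W a ha' u, map_zero]
  choose k hk using hAR
  refine ⟨σ.sup k, KFlat.StalkTensor.mono_of_stalk_injective _ fun y ↦ ?_⟩
  obtain ⟨W, hW⟩ := Set.mem_iUnion.mp (hσ (Set.mem_univ y))
  obtain ⟨hWσ, hyW⟩ := Set.mem_iUnion.mp hW
  change Function.Injective (stalkLin (f ≫ _) y)
  refine (injective_iff_map_eq_zero _).mpr fun t h0 ↦ ?_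
  rw [stalkLin_comp_apply] at h0
  have h1 := mem_smul_of_unit_eq_zero _ G W.2 hyW _ h0
  obtain ⟨m, s, hm, hs, hst⟩ := exists_smul_mem_of_mem W.2 hyW _ h1
  obtain ⟨u, s₁, hs₁, hu⟩ := CycLib.exists_smul_germ_eq K W.2 hyW t
  have hfu : X.presheaf.germ W.1 y hyW s₁ • stalkLin f y t =
      germM G W.1 y hyW (appLin f W.1 u) := by
    rw [← map_smul, hu, stalkLin_germ]
    rfl
  have hz : germM G W.1 y hyW (s₁ • m - s • appLin f W.1 u) = 0 := by
    rw [show germM G W.1 y hyW (s₁ • m - s • appLin f W.1 u) =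
      germM G W.1 y hyW (s₁ • m) - germM G W.1 y hyW (s • appLin f W.1 u) from
      map_sub (G.presheaf.germ W.1 y hyW).hom _ _, germM_smul, germM_smul, ← hst, ← hfu, smul_comm,
      sub_self]
  obtain ⟨s₂, hs₂, hz₂⟩ := CycLib.exists_smul_eq_zero_of_germ_eq_zero G W.2 hyW _ hz
  rw [smul_sub, sub_eq_zero] at hz₂
  have hmem : s₂ • s₁ • m ∈ (I.ideal W) ^ (σ.sup k + 1) • (⊤ : Submodule Γ(X, W.1) Γ(G, W.1)) ⊓
      LinearMap.range (appLin f W.1) := by
    refine ⟨Submodule.smul_mem _ _ (Submodule.smul_mem _ _ ?_), hz₂ ▸ ⟨s₂ • s • u, by simp⟩⟩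
    simpa [Scheme.IdealSheafData.ideal_pow] using hm
  rw [hk W _ (Nat.lt_succ_of_le (Finset.le_sup hWσ)), Submodule.mem_bot] at hmem
  refine stalk_injective f y ?_
  rw [map_zero]
  refine ((hs₂.mul hs₁).mul hs).smul_eq_zero.mp ?_
  rw [mul_smul, mul_smul, hst, ← germM_smul, ← germM_smul, hmem]
  exact map_zero (G.presheaf.germ W.1 y hyW).hom

/-- `J G` maps to zero in a module killed by `J`. -/
lemma idealMulι_comp_eq_zero (J : X.IdealSheafData) {G Q : X.Modules} (p : G ⟶ Q) (h : Killed J Q) :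
    Dual3.idealMulι J G ≫ p = 0 := by
  let adj := Scheme.Modules.pullbackPushforwardAdjunction J.subschemeι
  haveI : IsIso (adj.unit.app Q) := (ClUnit.isIso_unit_iff J.subschemeι Q).mpr fun V a ha s ↦
    h V a (by rwa [Scheme.IdealSheafData.ker_subschemeι] at ha) s
  rw [← cancel_mono (adj.unit.app Q), zero_comp, Category.assoc,
    show p ≫ adj.unit.app Q = adj.unit.app G ≫
      (Scheme.Modules.pushforward J.subschemeι).map ((Scheme.Modules.pullback J.subschemeι).map p)
      from adj.unit.naturality p, ← Category.assoc,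
    show Dual3.idealMulι J G ≫ adj.unit.app G = 0 from kernel.condition _, zero_comp]

lemma isCoh_idealMul (J : X.IdealSheafData) {G : X.Modules} (hG : Coh.IsCoh G) :
    Coh.IsCoh ((Dual3.idealMul J).obj G) := by
  have hp := (ZClosLib.CohDescent.isCoh_pullback J.subschemeι G hG).1
  exact isCoh_kernel _ hG (@QCoh.isQuasicoherent_pushforward _ _ J.subschemeι _ _ _ hp)

/-- Inside `G`, multiplication by a suitable ideal moves into `A` and away from `K`. -/
theorem exists_ideal_inf_eq_zero {G A K : X.Modules} (a : A ⟶ G) [Mono a] (c : K ⟶ G) [Mono c]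
    (hG : Coh.IsCoh G) (hA : Coh.IsCoh A) (hK : Coh.IsCoh K) {x : X}
    (hxA : x ∉ CohB1.support (cokernel a)) (hxK : x ∉ CohB1.support K) :
    ∃ J : X.IdealSheafData, x ∉ (J.support : Set X) ∧
      Dual3.idealMulι J G ≫ cokernel.π a = 0 ∧
      ∀ {T : X.Modules} (u : T ⟶ (Dual3.idealMul J).obj G) (v : T ⟶ K),
        u ≫ Dual3.idealMulι J G = v ≫ c → v = 0 := by
  have hQ := isCoh_cokernel a hA.1 hG
  have hM := isCoh_biprod hK hQ
  haveI := hM.1
  haveI := hM.2
  let I := ScSupp.annIdeal (K ⊞ cokernel a)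
  have hk : Killed I (K ⊞ cokernel a) := killed_annIdeal hM
  obtain ⟨n, hn⟩ := exists_pow_mono_unit c hK hG I
    (killed_of_mono (biprod.inl : K ⟶ K ⊞ cokernel a) hk)
  refine ⟨I ^ (n + 1), ?_, idealMulι_comp_eq_zero _ _ ?_, fun {T} u v h ↦ ?_⟩
  · rw [Scheme.IdealSheafData.support_pow_succ, ScSupp.support_annIdeal]
    exact fun h ↦ (support_biprod_subset _ _ h).elim hxK hxA
  · refine killed_mono_ideal ?_ (killed_of_mono (biprod.inr : cokernel a ⟶ K ⊞ cokernel a) hk)
    intro W
    rw [Scheme.IdealSheafData.ideal_pow]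
    exact Ideal.pow_le_self n.succ_ne_zero
  · rw [← cancel_mono (c ≫ (Scheme.Modules.pullbackPushforwardAdjunction
      (I ^ (n + 1)).subschemeι).unit.app G), zero_comp, ← Category.assoc, ← h, Category.assoc,
      show Dual3.idealMulι (I ^ (n + 1)) G ≫ _ = 0 from kernel.condition _, comp_zero]

/-- Induction on supports, by extensions only. -/
theorem devissage_ext {T : Set X} (hT : IsClosed T) {P : X.Modules → Prop}
    (h0 : ∀ M, IsZero M → P M)
    (hext : ∀ S : ShortComplex X.Modules, S.ShortExact → Coh.IsCoh S.X₁ → Coh.IsCoh S.X₂ →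
      Coh.IsCoh S.X₃ → CohB1.support S.X₂ ⊆ T → P S.X₁ → P S.X₃ → P S.X₂)
    (hstep : ∀ x ∈ T, ∀ J, IsPiece x J →
      (∀ M, Coh.IsCoh M → CohB1.support M ⊆ closure {x} → x ∉ CohB1.support M → P M) → P J)
    {M : X.Modules} (hM : Coh.IsCoh M) (hs : CohB1.support M ⊆ T) : P M := by
  haveI : NoetherianSpace X := inferInstance
  suffices H : ∀ Z : Closeds X, (Z : Set X) ⊆ T → ∀ {M : X.Modules}, Coh.IsCoh M →
      CohB1.support M ⊆ Z → P M from H ⟨T, hT⟩ subset_rfl hM hs
  intro Z
  induction Z using WellFoundedLT.induction with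
  | _ Z IH =>
    intro hZ M hM hs
    refine devissage_on (Z : Set X) P h0
      (fun S hS h₁ h₂ h₃ hsS ↦ hext S hS h₁ h₂ h₃ (hsS.trans hZ)) (fun x hx J hJ _ ↦ ?_) hM hs
    refine hstep x (hZ hx) J hJ fun N hN hNs hxN ↦ ?_
    let Z' : Closeds X := ⟨CohB1.support N, isClosed_support hN⟩
    have hle : closure ({x} : Set X) ⊆ Z :=
      closure_minimal (Set.singleton_subset_iff.mpr hx) Z.isClosed
    exact IH Z' (lt_of_le_of_ne (hNs.trans hle) fun e ↦ hxN (show x ∈ (Z' : Set X) by rw [e]; exact hx))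
      ((hNs.trans hle).trans hZ) hN subset_rfl

/-- A piece from a model by extensions and roots of powers. -/
theorem piece_of_model_ext {T : Set X} {P : X.Modules → Prop} {x : X}
    (hxT : closure ({x} : Set X) ⊆ T)
    (hext : ∀ S : ShortComplex X.Modules, S.ShortExact → Coh.IsCoh S.X₁ → Coh.IsCoh S.X₂ →
      Coh.IsCoh S.X₃ → CohB1.support S.X₂ ⊆ T → P S.X₁ → P S.X₃ → P S.X₂)
    (hiso : ∀ M N : X.Modules, Nonempty (M ≅ N) → P M → P N)
    (hroot : ∀ (F : X.Modules) (d : ℕ), Coh.IsCoh F → 1 ≤ d → P (∐ fun _ : Fin d => F) → P F)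
    (hsmall : ∀ M, Coh.IsCoh M → CohB1.support M ⊆ closure {x} → x ∉ CohB1.support M → P M)
    {G : X.Modules} (hG : Coh.IsCoh G) (hGs : CohB1.support G ⊆ closure {x})
    (hxG : x ∈ CohB1.support G)
    (hk : ∀ a ∈ IsLocalRing.maximalIdeal (X.presheaf.stalk x), ∀ m : G.presheaf.stalk x, a • m = 0)
    (hsub : ∀ J : X.IdealSheafData, x ∉ (J.support : Set X) →
      ∃ (G' : X.Modules) (ι : G' ⟶ (Dual3.idealMul J).obj G), Mono ι ∧ Coh.IsCoh G' ∧
        Function.Bijective (stalkLin (ι ≫ Dual3.idealMulι J G) x) ∧ P G')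
    {J₀ : X.Modules} (hJ : IsPiece x J₀) : P J₀ := by
  haveI := FDesc.QuasiFlat.finite_stalk_of_isCoh G hG x
  obtain ⟨d, ⟨θ⟩⟩ := exists_equiv_pow_residue hk
  obtain ⟨ρ⟩ := hJ.stalk_residue
  have hJs := hJ.support_subset
  obtain ⟨-, -, hJc, -⟩ := hJ
  have hd : 1 ≤ d := Nat.one_le_iff_ne_zero.mpr fun h ↦ hxG <| by subst h; exact θ.toEquiv.subsingleton
  let M := pow J₀ d
  have hM : Coh.IsCoh M := (isCoh_pow_and_kcl hJc d).1
  have hMs : CohB1.support M ⊆ closure {x} := (support_pow_subset J₀ d).trans hJs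
  obtain ⟨H, a, b, hH, hm, ha, hb⟩ := exists_roof_at hG hM x
    ((θ.trans (LinearEquiv.piCongrRight fun _ => ρ.symm)).trans (powStalkEquiv J₀ d x).symm)
  let K := kernel b
  let c : K ⟶ G := kernel.ι b ≫ a
  haveI : Mono c := Preadditive.mono_of_cancel_zero _ fun {W} z hz ↦ by
    rw [← cancel_mono (kernel.ι b), zero_comp, ← cancel_mono (biprod.lift a b), zero_comp]
    refine biprod.hom_ext _ _ ?_ ?_
    · simpa [c] using hz
    · simp
  let A := Abelian.image a
  have hA : Coh.IsCoh A := isCoh_image a hH hG.1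
  have hxA : x ∉ CohB1.support (cokernel (Abelian.image.ι a)) := not_mem_support_cokernel _ fun t ↦ by
    obtain ⟨w, rfl⟩ := ha.2 t
    exact ⟨stalkLin (Abelian.factorThruImage a) x w,
      by rw [← stalkLin_comp_apply, Abelian.image.fac]⟩
  obtain ⟨J, hxJ, hJA, hJK⟩ := exists_ideal_inf_eq_zero (Abelian.image.ι a) c hG hA
    (isCoh_kernel' b hH hM) hxA (not_mem_support_kernel b hb.1)
  obtain ⟨G', ι, hι, hG', hbij, hPG⟩ := hsub J hxJ
  let j : G' ⟶ G := ι ≫ Dual3.idealMulι J G
  haveI : Mono j := mono_comp _ _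
  have hj : j ≫ cokernel.π (Abelian.image.ι a) = 0 := by rw [Category.assoc, hJA, comp_zero]
  let l : G' ⟶ A := Abelian.monoLift (Abelian.image.ι a) j hj
  have hl : l ≫ Abelian.image.ι a = j := Abelian.monoLift_comp _ _ _
  -- the fibre product of `G'` and `H` over `G`
  let H' := kernel (a ≫ cokernel.π j)
  let p : H' ⟶ G' := Abelian.monoLift j (kernel.ι _ ≫ a)
    (by rw [Category.assoc]; exact kernel.condition _)
  have hp : p ≫ j = kernel.ι _ ≫ a := Abelian.monoLift_comp _ _ _
  haveI hpe : Epi p := by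
    rw [epi_iff_surjective_up_to_refinements]
    intro W z
    obtain ⟨W', e, he, w, hw⟩ := surjective_up_to_refinements_of_epi (Abelian.factorThruImage a) (z ≫ l)
    have hw' : w ≫ a = e ≫ z ≫ j := by
      conv_lhs => rw [← Abelian.image.fac a]
      rw [← Category.assoc, ← hw, Category.assoc, Category.assoc, hl]
    refine ⟨W', e, he, kernel.lift _ w (by
      rw [← Category.assoc, hw', Category.assoc, Category.assoc, cokernel.condition, comp_zero,
        comp_zero]), ?_⟩
    rw [← cancel_mono j, Category.assoc, Category.assoc, hp, kernel.lift_ι_assoc, hw']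
  let bq := kernel.ι (a ≫ cokernel.π j) ≫ b
  -- `b` factors through `p` to a monomorphism
  have hmain : ∀ {W : X.Modules} (w : W ⟶ H') , w ≫ bq = 0 → w = 0 := by
    intro W w hw
    have hwb : (w ≫ kernel.ι (a ≫ cokernel.π j)) ≫ b = 0 := by rw [Category.assoc]; exact hw
    let v := kernel.lift b _ hwb
    have hv : v = 0 := hJK (w ≫ p ≫ ι) v (by
      simp only [v, c, Category.assoc, kernel.lift_ι_assoc]
      exact congrArg (w ≫ ·) hp)
    rw [← cancel_mono (kernel.ι (a ≫ cokernel.π j)), zero_comp,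
      ← kernel.lift_ι b _ hwb]
    change v ≫ _ = 0
    rw [hv, zero_comp]
  haveI : Mono bq := Preadditive.mono_of_cancel_zero _ fun {W} w hw ↦ hmain w hw
  have hH' : Coh.IsCoh H' :=
    isCoh_kernel' _ hH (isCoh_cokernel j hG'.1 hG)
  have hH's : CohB1.support H' ⊆ closure {x} := (support_subset_of_mono bq).trans hMs
  -- the kernel of `p` is small
  have hPH' : P H' := by
    have hK' := isCoh_kernel' p hH' hG'
    have hinj : Function.Injective (stalkLin p x) := by
      intro w w' hww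
      refine stalk_injective (kernel.ι (a ≫ cokernel.π j)) x (ha.1 ?_)
      rw [← stalkLin_comp_apply, ← stalkLin_comp_apply, ← hp, stalkLin_comp_apply p j x w, stalkLin_comp_apply p j x w', hww]
    exact hext (ShortComplex.mk (kernel.ι p) p (kernel.condition p))
      { exact := ShortComplex.exact_of_f_is_kernel _ (kernelIsKernel p)
        mono_f := inferInstanceAs (Mono (kernel.ι p))
        epi_g := hpe } hK' hH' hG' (hH's.trans hxT)
      (hsmall _ hK' ((support_subset_of_mono (kernel.ι p)).trans hH's) (not_mem_support_kernel p hinj))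
      hPG
  have hC := isCoh_cokernel bq hH'.1 hM
  have hsurj : Function.Surjective (stalkLin bq x) := by
    intro t
    obtain ⟨w, rfl⟩ := hb.2 t
    obtain ⟨g, hg⟩ := hbij.2 (stalkLin a x w)
    obtain ⟨q, rfl⟩ := stalk_surjective p x g
    refine ⟨q, ?_⟩
    have e : stalkLin (kernel.ι (a ≫ cokernel.π j)) x q = w := ha.1 (by
      rw [← stalkLin_comp_apply, ← hp, stalkLin_comp_apply]; exact hg)
    rw [stalkLin_comp_apply, e]
  have hPM : P M := hext (ShortComplex.mk bq (cokernel.π bq) (cokernel.condition bq))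
    { exact := ShortComplex.exact_of_g_is_cokernel _ (cokernelIsCokernel bq)
      mono_f := inferInstanceAs (Mono bq)
      epi_g := inferInstanceAs (Epi (cokernel.π bq)) } hH' hM hC (hMs.trans hxT) hPH'
    (hsmall _ hC ((support_subset_of_epi (cokernel.π bq)).trans hMs) (not_mem_support_cokernel bq hsurj))
  exact hroot J₀ d hJc hd (hiso _ _ ⟨biproduct.isoCoproduct _⟩ hPM)

end Groth.Agent.CohDev

namespace Groth.Agent.CohDev

open Groth.Agent.PullStalk.Sky Groth.Agent.PullStalk.Exact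

/-- The stalk at the generic point of a module killed by the ideal of the closure. -/
lemma smul_stalk_of_killed {X : Scheme.{u}} {x : X} {G : X.Modules} (hG : Coh.IsQCoh G)
    (hk : Killed (IntMult.ptIdeal x) G) {r : X.presheaf.stalk x}
    (hr : r ∈ IsLocalRing.maximalIdeal (X.presheaf.stalk x)) (t : G.presheaf.stalk x) : r • t = 0 := by
  haveI : G.IsQuasicoherent := hG
  obtain ⟨V, hV, hxV, -⟩ := exists_isAffineOpen_mem_and_subset (X := X) (Opens.mem_top x)
  refine smul_eq_zero_of_prime hV hxV (fun a ha => ?_) hr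
  obtain ⟨m, s, hs, hst⟩ := CycLib.exists_smul_germ_eq G hV hxV t
  refine hs.smul_eq_zero.mp ?_
  rw [smul_comm, hst, ← germM_smul]
  refine (congrArg (germM G V x hxV) (hk ⟨V, hV⟩ a ?_ m)).trans
    (map_zero (G.presheaf.germ V x hxV).hom)
  rwa [ideal_ptIdeal x hxV]

end Groth.Agent.CohDev
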