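import Groth.Agent.CohDev.Coh
import Groth.Agent.Props.SubSheaf
import Groth.Agent.QCohGen.Noeth

/-!
The largest submodule killed by an ideal sheaf.
-/

universe u

open CategoryTheory Limits AlgebraicGeometry Opposite TopologicalSpace

noncomputable section

namespace Groth.Agent.CohDev

open Groth.Agent.PullStalk.Sky Groth.Agent.Props.SubMod Groth.Agent.Props.SubSheaf

variable {X : Scheme.{u}} (I : X.IdealSheafData) (M : X.Modules)

/-- The ideal kills the module. -/
def Killed : Prop := ∀ (V : X.affineOpens), ∀ a ∈ I.ideal V, ∀ m : Γ(M, V.1), a • m = 0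

/-- Stalk elements killed by the ideal. -/
def killFam : StalkSub M := fun y ↦
  { carrier := {t | ∀ (V : X.affineOpens) (hy : y ∈ V.1), ∀ a ∈ I.ideal V,
      X.presheaf.germ V.1 y hy a • t = 0}
    zero_mem' := fun _ _ _ _ ↦ smul_zero _
    add_mem' := fun {s t} hs ht V hy a ha ↦ by rw [smul_add, hs V hy a ha, ht V hy a ha, add_zero]
    smul_mem' := fun c t ht V hy a ha ↦ by rw [smul_comm, ht V hy a ha, smul_zero] }

variable {I M}

lemma germ_mem_killFam {V : X.affineOpens} {m : Γ(M, V.1)} (hm : ∀ a ∈ I.ideal V, a • m = 0)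
    {y : X} (hy : y ∈ V.1) : germM M V.1 y hy m ∈ killFam I M y := by
  intro W hyW a ha
  obtain ⟨f, g, e, hyf⟩ := exists_basicOpen_le_affine_inter V.2 W.2 y ⟨hy, hyW⟩
  have hleV : X.basicOpen f ≤ V.1 := X.basicOpen_le f
  have hleW : X.basicOpen f ≤ W.1 := e.trans_le (X.basicOpen_le g)
  have ha' : QCoh.rres hleW a ∈ I.ideal (X.affineBasicOpen f) :=
    I.ideal_le_comap_ideal (U := X.affineBasicOpen f) (V := W) hleW ha
  rw [← I.map_ideal_basicOpen V f] at ha'
  have key : ∀ b ∈ (I.ideal V).map (X.presheaf.map (homOfLE hleV).op).hom,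
      b • QCoh.res M hleV m = 0 := by
    intro b hb
    induction hb using Submodule.span_induction with
    | mem c hc =>
      obtain ⟨a₀, ha₀, rfl⟩ := hc
      exact (Scheme.Modules.map_smul M (homOfLE hleV) a₀ m).symm.trans
        ((congrArg (QCoh.res M hleV) (hm a₀ ha₀)).trans (map_zero _))
    | zero => exact zero_smul _ _
    | add b c _ _ hb hc => rw [add_smul, hb, hc, add_zero]
    | smul c b _ hb => rw [smul_eq_mul, mul_smul, hb, smul_zero]
  have h1 := congrArg (germM M (X.basicOpen f) y hyf) (key _ ha')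
  rw [germM_smul] at h1
  have e1 : germM M (X.basicOpen f) y hyf (QCoh.res M hleV m) = germM M V.1 y hy m :=
    M.presheaf.germ_res_apply _ y hyf m
  have e2 : X.presheaf.germ (X.basicOpen f) y hyf (QCoh.rres hleW a) =
      X.presheaf.germ W.1 y hyW a := X.presheaf.germ_res_apply (homOfLE hleW) y hyf a
  rw [e1, e2] at h1
  exact h1.trans (map_zero (M.presheaf.germ (X.basicOpen f) y hyf).hom)

variable (I M) in
/-- The sections killed by the ideal. -/
def killSec (V : X.affineOpens) : Submodule Γ(X, V.1) Γ(M, V.1) where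
  carrier := {m | ∀ a ∈ I.ideal V, a • m = 0}
  zero_mem' := fun _ _ ↦ smul_zero _
  add_mem' := fun hs ht a ha ↦ by rw [smul_add, hs a ha, ht a ha, add_zero]
  smul_mem' := fun c t ht a ha ↦ by rw [smul_comm, ht a ha, smul_zero]

variable [IsLocallyNoetherian X]

lemma genBy_killSec [M.IsQuasicoherent] (V : X.affineOpens) :
    GenBy (killFam I M) V.1 (killSec I M V : Set Γ(M, V.1)) := by
  intro y hy
  refine le_antisymm (fun t ht ↦ ?_) (Submodule.span_le.mpr ?_)
  · obtain ⟨m, s, hs, hst⟩ := CycLib.exists_smul_germ_eq M V.2 hy t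
    have := IsLocallyNoetherian.component_noetherian V
    obtain ⟨G, hG⟩ := IsNoetherian.noetherian (R := Γ(X, V.1)) (I.ideal V)
    have hz : ∀ a : {a // a ∈ G}, ∃ c : Γ(X, V.1), IsUnit (X.presheaf.germ V.1 y hy c) ∧
        c • (a.1 • m) = 0 := fun a ↦ by
      have ha : a.1 ∈ I.ideal V := hG ▸ Submodule.subset_span a.2
      refine CycLib.exists_smul_eq_zero_of_germ_eq_zero M V.2 hy _ ?_
      rw [germM_smul, ← hst, smul_comm, ht V hy a.1 ha, smul_zero]
    choose c hc hca using hz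
    have hm : (∏ a, c a) • m ∈ killSec I M V := by
      intro a ha
      rw [← hG] at ha
      induction ha using Submodule.span_induction with
      | mem b hb =>
        obtain ⟨d, hd⟩ := Finset.dvd_prod_of_mem c (Finset.mem_univ ⟨b, hb⟩)
        rw [hd, smul_smul, show b * (c ⟨b, hb⟩ * d) = d * (c ⟨b, hb⟩ * b) by ring, mul_smul,
          mul_smul, hca ⟨b, hb⟩, smul_zero]
      | zero => exact zero_smul _ _
      | add b b' _ _ hb hb' => rw [add_smul, hb, hb', add_zero]
      | smul d b _ hb => rw [smul_eq_mul, mul_smul, hb, smul_zero]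
    obtain ⟨u, hu⟩ : IsUnit (X.presheaf.germ V.1 y hy ((∏ a, c a) * s)) := by
      rw [map_mul, map_prod]
      exact (IsUnit.prod_univ_iff.mpr hc).mul hs
    have hut : (u : X.presheaf.stalk y) • t ∈ spanGerm (killSec I M V : Set Γ(M, V.1)) y hy := by
      rw [hu, map_mul, mul_smul, hst, ← germM_smul]
      exact Submodule.subset_span ⟨_, hm, rfl⟩
    have := Submodule.smul_mem _ (↑u⁻¹ : X.presheaf.stalk y) hut
    rwa [smul_smul, u.inv_mul, one_smul] at this
  · rintro _ ⟨m, hm, rfl⟩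
    exact germ_mem_killFam hm hy

lemma ftOn_killFam (hM : Coh.IsCoh M) : FTOn (killFam I M) ⊤ := by
  haveI : M.IsQuasicoherent := hM.1
  intro x _
  obtain ⟨V, hV, hxV, -⟩ := exists_isAffineOpen_mem_and_subset (X := X) (Opens.mem_top x)
  have := IsLocallyNoetherian.component_noetherian ⟨V, hV⟩
  have := finite_sections hM hV
  obtain ⟨T, hT⟩ := IsNoetherian.noetherian (killSec I M ⟨V, hV⟩)
  refine ⟨V, hV, hxV, le_top, T, fun y hy ↦ ?_⟩
  rw [genBy_killSec ⟨V, hV⟩ y hy]
  refine le_antisymm (Submodule.span_le.mpr ?_) (Submodule.span_mono (Set.image_mono ?_))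
  · rintro _ ⟨m, hm, rfl⟩
    exact germ_mem_spanGerm_of_mem_span (hT.symm ▸ hm) y hy
  · exact hT ▸ Submodule.subset_span

variable (I M) in
/-- The largest submodule killed by the ideal. -/
abbrev killSub : X.Modules := sub (killFam I M)

lemma isCoh_killSub (hM : Coh.IsCoh M) : Coh.IsCoh (killSub I M) :=
  ⟨@isQuasicoherent_sub X M _ hM.1 (ftOn_killFam hM), @isFiniteType_sub X M _ hM.1 (ftOn_killFam hM)⟩

omit [IsLocallyNoetherian X] in
lemma killed_of_mono {A B : X.Modules} (f : A ⟶ B) [Mono f] (h : Killed I B) : Killed I A :=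
  fun V a ha m ↦ QCoh.app_injective_of_mono f V.1 (by
    rw [Scheme.Modules.Hom.app_smul, h V a ha, map_zero])

omit [IsLocallyNoetherian X] in
lemma killed_of_epi {A B : X.Modules} (f : A ⟶ B) [Epi f] (hA : Coh.IsQCoh A) (hB : Coh.IsQCoh B)
    (h : Killed I A) : Killed I B := fun V a ha m ↦ by
  obtain ⟨n, rfl⟩ := @QCoh.app_surjective_of_epi X A B f _ hA hB V.1 V.2 m
  rw [← Scheme.Modules.Hom.app_smul, h V a ha, map_zero]

lemma killed_killSub (hM : Coh.IsCoh M) : Killed I (killSub I M) := by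
  haveI : M.IsQuasicoherent := hM.1
  intro V a ha m
  refine incl_injective _ _ ?_
  rw [map_zero, Scheme.Modules.Hom.app_smul]
  refine TopCat.Presheaf.section_ext (⟨M.presheaf, M.isSheaf⟩ : TopCat.Sheaf AddCommGrpCat X)
    V.1 _ _ fun y hy ↦ ?_
  refine Eq.trans ?_ (map_zero (M.presheaf.germ V.1 y hy).hom).symm
  change germM M V.1 y hy (a • (incl (killFam I M)).app V.1 m) = 0
  rw [germM_smul]
  exact (mem_range_incl _ _).mp ⟨m, rfl⟩ y hy V hy a ha

omit [IsLocallyNoetherian X] in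
/-- Universality of the killed submodule. -/
lemma exists_lift_killSub {A : X.Modules} (f : A ⟶ M) (hA : Coh.IsQCoh A) (h : Killed I A) :
    ∃ g : A ⟶ killSub I M, g ≫ incl (killFam I M) = f := by
  haveI : A.IsQuasicoherent := hA
  have hz : f ≫ cokernel.π (incl (killFam I M)) = 0 := QCohGen.Noeth.eq_zero_of_cover _ fun x ↦ by
    obtain ⟨W, hW, hx, -⟩ := exists_isAffineOpen_mem_and_subset (X := X) (Opens.mem_top x)
    refine ⟨⟨W, hW⟩, hx, fun t ↦ ?_⟩
    obtain ⟨u, hu⟩ := (mem_range_incl (killFam I M) (f.app W t)).mpr fun y hy ↦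
      germ_mem_killFam (V := ⟨W, hW⟩) (fun a ha ↦ by
        rw [← Scheme.Modules.Hom.app_smul, h ⟨W, hW⟩ a ha, map_zero]) hy
    rw [Scheme.Modules.Hom.comp_app, ConcreteCategory.comp_apply, ← hu,
      ← ConcreteCategory.comp_apply, ← Scheme.Modules.Hom.comp_app, cokernel.condition]
    rfl
  exact ⟨Abelian.monoLift (incl (killFam I M)) f hz, Abelian.monoLift_comp _ _ _⟩

omit [IsLocallyNoetherian X] in
lemma killed_mono_ideal {J : X.IdealSheafData} (hIJ : I ≤ J) (h : Killed J M) : Killed I M :=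
  fun V a ha ↦ h V a (hIJ V ha)

omit [IsLocallyNoetherian X] in
lemma support_subset_of_killed (h : Killed I M) : CohB1.support M ⊆ I.support := by
  intro y hy
  by_contra hn
  refine hy (subsingleton_of_forall_eq 0 fun t ↦ ?_)
  obtain ⟨W, hyW, m, rfl⟩ := exists_germM_eq M y t
  obtain ⟨_, ⟨(V : X.Opens), (hV : IsAffineOpen V), rfl⟩, hyV, hVW⟩ :=
    X.isBasis_affineOpens.exists_subset_of_mem_open hyW W.isOpen
  have hns : y ∉ X.zeroLocus (U := V) (I.ideal ⟨V, hV⟩ : Set Γ(X, V)) := fun hz ↦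
    hn (((Set.ext_iff.mp (I.coe_support_inter ⟨V, hV⟩) y).mpr ⟨hz, hyV⟩).1)
  rw [Scheme.mem_zeroLocus_iff] at hns
  push Not at hns
  obtain ⟨a, ha, hya⟩ := hns
  have h1 := congrArg (germM M V y hyV) (h ⟨V, hV⟩ a ha (QCoh.res M hVW m))
  rw [germM_smul] at h1
  have e : germM M V y hyV (QCoh.res M hVW m) = germM M W y hyW m :=
    M.presheaf.germ_res_apply _ y hyV m
  rw [e] at h1
  exact ((X.mem_basicOpen a y hyV).mp hya).smul_eq_zero.mp
    (h1.trans (map_zero (M.presheaf.germ V y hyV).hom))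

end Groth.Agent.CohDev
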