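import Mathlib.CategoryTheory.Localization.CalculusOfFractions
import Mathlib.CategoryTheory.Localization.Predicate

/-!
A criterion for a functor to be a localization at the morphisms it inverts.
-/

set_option autoImplicit false
set_option linter.style.haveILetI false

open CategoryTheory

namespace Groth.Agent.CohDev.LocCriterion

universe v v' w w'

variable {C : Type w} [Category.{v} C] {D : Type w'} [Category.{v'} D] (L : C ⥤ D)

/-- An essentially surjective functor which is full up to inverted maps and faithful up to inverted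
maps is a localization at the maps it inverts. -/
theorem isLocalization [L.EssSurj]
    (lift : ∀ ⦃X Y : C⦄ (φ : L.obj X ⟶ L.obj Y),
      ∃ (X' : C) (s : X' ⟶ X) (g : X' ⟶ Y), IsIso (L.map s) ∧ L.map g = L.map s ≫ φ)
    (sep : ∀ ⦃X Y : C⦄ (f g : X ⟶ Y), L.map f = L.map g →
      ∃ (X' : C) (s : X' ⟶ X), IsIso (L.map s) ∧ s ≫ f = s ≫ g) :
    L.IsLocalization ((MorphismProperty.isomorphisms D).inverseImage L) := by
  let W := (MorphismProperty.isomorphisms D).inverseImage L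
  have hL : W.IsInvertedBy L := fun _ _ _ h => h
  haveI : W.HasRightCalculusOfFractions :=
    { exists_rightFraction := fun X Y φ => by
        haveI : IsIso (L.map φ.s) := hL _ φ.hs
        obtain ⟨X', s, g, hs, hg⟩ := lift (L.map φ.f ≫ inv (L.map φ.s))
        have he : L.map (s ≫ φ.f) = L.map (g ≫ φ.s) := by
          rw [L.map_comp, L.map_comp, hg, Category.assoc, Category.assoc, IsIso.inv_hom_id,
            Category.comp_id]
        obtain ⟨X'', t, ht, hte⟩ := sep _ _ he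
        refine ⟨MorphismProperty.RightFraction.mk (t ≫ s) ?_ (t ≫ g), ?_⟩
        · show IsIso (L.map (t ≫ s))
          rw [L.map_comp]
          infer_instance
        · simpa only [Category.assoc] using hte
      ext := fun X Y Y' f₁ f₂ s hs h => by
        haveI : IsIso (L.map s) := hs
        obtain ⟨X', t, ht, hte⟩ := sep f₁ f₂ ((cancel_mono (L.map s)).1 (by
          rw [← L.map_comp, ← L.map_comp, h]))
        exact ⟨X', t, ht, hte⟩ }
  let Q := W.Q
  let G : W.Localization ⥤ D := Localization.lift L hL W.Q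
  let e : W.Q ⋙ G ≅ L := Localization.fac L hL W.Q
  have hG : ∀ {X Y : C} (f : X ⟶ Y), G.map (Q.map f) = e.hom.app X ≫ L.map f ≫ e.inv.app Y := by
    intro X Y f
    rw [← NatTrans.naturality_assoc e.hom f, Iso.hom_inv_id_app, Category.comp_id]
    rfl
  have hiso : ∀ {X Y : C} (s : X ⟶ Y), W s → IsIso (Q.map s) := fun s hs =>
    Localization.inverts W.Q W s hs
  haveI : G.EssSurj := ⟨fun d => ⟨Q.obj (L.objPreimage d), ⟨e.app _ ≪≫ L.objObjPreimageIso d⟩⟩⟩
  haveI : G.Full := ⟨fun {A B} h => by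
    obtain ⟨X, ⟨a⟩⟩ : ∃ X, Nonempty (Q.obj X ≅ A) := ⟨_, ⟨(Localization.essSurj W.Q W).mem_essImage A |>.getIso⟩⟩
    obtain ⟨Y, ⟨b⟩⟩ : ∃ Y, Nonempty (Q.obj Y ≅ B) := ⟨_, ⟨(Localization.essSurj W.Q W).mem_essImage B |>.getIso⟩⟩
    obtain ⟨X', s, g, hs, hg⟩ := lift (e.inv.app X ≫ G.map a.hom ≫ h ≫ G.map b.inv ≫ e.hom.app Y)
    haveI := hiso s hs
    refine ⟨a.inv ≫ inv (Q.map s) ≫ Q.map g ≫ b.hom, ?_⟩
    have h1 : G.map (inv (Q.map s)) ≫ G.map (Q.map g) = G.map a.hom ≫ h ≫ G.map b.inv := by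
      rw [← cancel_epi (G.map (Q.map s)), ← G.map_comp_assoc (Q.map s), IsIso.hom_inv_id,
        CategoryTheory.Functor.map_id, Category.id_comp, hG g, hG s, hg]
      simp
      erw [Category.comp_id]
    rw [G.map_comp, G.map_comp, G.map_comp, reassoc_of% h1, ← G.map_comp, b.inv_hom_id,
      CategoryTheory.Functor.map_id, Category.comp_id, ← G.map_comp_assoc, a.inv_hom_id,
      CategoryTheory.Functor.map_id, Category.id_comp]⟩
  haveI : G.Faithful := ⟨fun {A B} u v huv => by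
    obtain ⟨X, ⟨a⟩⟩ : ∃ X, Nonempty (Q.obj X ≅ A) := ⟨_, ⟨(Localization.essSurj W.Q W).mem_essImage A |>.getIso⟩⟩
    obtain ⟨Y, ⟨b⟩⟩ : ∃ Y, Nonempty (Q.obj Y ≅ B) := ⟨_, ⟨(Localization.essSurj W.Q W).mem_essImage B |>.getIso⟩⟩
    rw [← cancel_epi a.hom, ← cancel_mono b.inv]
    have huv' : G.map ((a.hom ≫ u) ≫ b.inv) = G.map ((a.hom ≫ v) ≫ b.inv) := by
      simp only [G.map_comp, huv]
    obtain ⟨⟨s₁, hs₁, f₁⟩, e₁⟩ := Localization.exists_rightFraction W.Q W ((a.hom ≫ u) ≫ b.inv)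
    obtain ⟨⟨s₂, hs₂, f₂⟩, e₂⟩ := Localization.exists_rightFraction W.Q W ((a.hom ≫ v) ≫ b.inv)
    rw [e₁, e₂] at huv' ⊢
    dsimp only [MorphismProperty.RightFraction.map] at huv' ⊢
    haveI : IsIso (L.map s₁) := hs₁
    haveI : IsIso (L.map s₂) := hs₂
    obtain ⟨P, t, w, ht, hw⟩ := lift (L.map s₁ ≫ inv (L.map s₂))
    have he : L.map (t ≫ s₁) = L.map (w ≫ s₂) := by
      rw [L.map_comp, L.map_comp, hw, Category.assoc, Category.assoc, IsIso.inv_hom_id, Category.comp_id]
    obtain ⟨P₁, q, hq, hqe⟩ := sep _ _ he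
    haveI : IsIso (L.map w) := by rw [hw]; infer_instance
    have hWs : W (q ≫ t ≫ s₁) := by
      show IsIso (L.map _)
      rw [L.map_comp, L.map_comp]
      infer_instance
    haveI := hiso s₁ hs₁
    haveI := hiso s₂ hs₂
    haveI := hiso _ hWs
    have k₁ : Q.map (q ≫ t ≫ s₁) ≫ inv (Q.map s₁) ≫ Q.map f₁ = Q.map (q ≫ t ≫ f₁) := by
      simp only [Functor.map_comp, Category.assoc, IsIso.hom_inv_id_assoc]
    have k₂ : Q.map (q ≫ t ≫ s₁) ≫ inv (Q.map s₂) ≫ Q.map f₂ = Q.map (q ≫ w ≫ f₂) := by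
      rw [hqe]
      simp only [Functor.map_comp, Category.assoc, IsIso.hom_inv_id_assoc]
    have hfe : L.map (q ≫ t ≫ f₁) = L.map (q ≫ w ≫ f₂) := by
      have h := congrArg (fun k => G.map (Q.map (q ≫ t ≫ s₁)) ≫ k) huv'
      simp only [← G.map_comp] at h
      erw [k₁, k₂] at h
      rw [hG, hG, cancel_epi, cancel_mono] at h
      exact h
    obtain ⟨P₂, r, hr, hre⟩ := sep _ _ hfe
    haveI := hiso r hr
    rw [← cancel_epi (Q.map r ≫ Q.map (q ≫ t ≫ s₁))]
    simp only [Category.assoc]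
    erw [k₁, k₂, ← Q.map_comp, ← Q.map_comp, hre]⟩
  haveI : G.IsEquivalence := { }
  exact Functor.IsLocalization.of_equivalence_target W.Q W L G.asEquivalence e

end Groth.Agent.CohDev.LocCriterion
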