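import Groth.Agent.CohDev.Loc

/-!
Extending additive functions of killed coherent modules to coherent modules with a finite
filtration by killed modules.
-/

universe u w

open CategoryTheory Limits AlgebraicGeometry Opposite TopologicalSpace

noncomputable section

namespace Groth.Agent.CohDev

open Groth.Agent.Props.SubMod Groth.Agent.Props.SubSheaf

variable {X : Scheme.{u}} (I : X.IdealSheafData)

/-- The inclusion of the killed part. -/
abbrev kincl (M : X.Modules) : killSub I M ⟶ M := incl (killFam I M)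

/-- The quotient by the killed part. -/
abbrev kc (M : X.Modules) : X.Modules := cokernel (kincl I M)

/-- `n` steps of killed quotients exhaust the module. -/
def Deg : ℕ → X.Modules → Prop
  | 0, M => IsZero M
  | n + 1, M => Deg n (kc I M)

variable {I}

lemma killed_of_isZero {M : X.Modules} (h : IsZero M) : Killed I M := fun V _ _ _ ↦ by
  have : Subsingleton Γ(M, V.1) :=
    AddCommGrpCat.subsingleton_of_isZero ((QCoh.sectionsFunctor X V.1).map_isZero h)
  exact Subsingleton.elim _ _

lemma isZero_of_epi {A B : X.Modules} (f : A ⟶ B) [Epi f] (h : IsZero A) : IsZero B :=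
  IsZero.of_epi_eq_zero f (h.eq_of_src _ _)

lemma isZero_of_mono {A B : X.Modules} (f : A ⟶ B) [Mono f] (h : IsZero B) : IsZero A :=
  IsZero.of_mono_eq_zero f (h.eq_of_tgt _ _)

variable [IsNoetherian X]

lemma isCoh_kc {M : X.Modules} (hM : Coh.IsCoh M) : Coh.IsCoh (kc I M) :=
  isCoh_cokernel _ (isCoh_killSub hM).1 hM

/-- The induced map of killed parts. -/
lemma exists_kmap {A B : X.Modules} (f : A ⟶ B) (hA : Coh.IsCoh A) :
    ∃ g : killSub I A ⟶ killSub I B, g ≫ kincl I B = kincl I A ≫ f :=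
  exists_lift_killSub _ (isCoh_killSub hA).1 (killed_killSub hA)

/-- The induced map of killed parts. -/
def kmap {A B : X.Modules} (f : A ⟶ B) (hA : Coh.IsCoh A) : killSub I A ⟶ killSub I B :=
  (exists_kmap f hA).choose

lemma kmap_spec {A B : X.Modules} (f : A ⟶ B) (hA : Coh.IsCoh A) :
    kmap (I := I) f hA ≫ kincl I B = kincl I A ≫ f :=
  (exists_kmap f hA).choose_spec

/-- The induced map of quotients. -/
def qmap {A B : X.Modules} (f : A ⟶ B) (hA : Coh.IsCoh A) : kc I A ⟶ kc I B :=
  cokernel.map _ _ (kmap f hA) f (kmap_spec f hA).symm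

@[reassoc]
lemma π_qmap {A B : X.Modules} (f : A ⟶ B) (hA : Coh.IsCoh A) :
    cokernel.π (kincl I A) ≫ qmap f hA = f ≫ cokernel.π (kincl I B) :=
  cokernel.π_desc _ _ _

lemma mono_qmap {A B : X.Modules} (f : A ⟶ B) [Mono f] (hA : Coh.IsCoh A) (hB : Coh.IsCoh B) :
    Mono (qmap (I := I) f hA) := by
  let K := kernel (f ≫ cokernel.π (kincl I B))
  have hK : Coh.IsCoh K := isCoh_kernel' _ hA (isCoh_kc hB)
  let c : K ⟶ killSub I B := Abelian.monoLift (kincl I B) (kernel.ι _ ≫ f)
    (by rw [Category.assoc]; exact kernel.condition _)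
  have hc : c ≫ kincl I B = kernel.ι _ ≫ f := Abelian.monoLift_comp _ _ _
  haveI : Mono (c ≫ kincl I B) := by rw [hc]; infer_instance
  haveI : Mono c := mono_of_mono c (kincl I B)
  obtain ⟨g, hg⟩ := exists_lift_killSub (I := I) (kernel.ι (f ≫ cokernel.π (kincl I B))) hK.1
    (killed_of_mono c (killed_killSub hB))
  refine Preadditive.mono_of_cancel_zero _ fun {T} z hz ↦ ?_
  obtain ⟨T', e, he, a, ha⟩ := surjective_up_to_refinements_of_epi (cokernel.π (kincl I A)) z
  have h0 : a ≫ f ≫ cokernel.π (kincl I B) = 0 := by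
    rw [← π_qmap f hA, ← Category.assoc, ← ha, Category.assoc, hz, comp_zero]
  have ha' : a = kernel.lift _ a h0 ≫ g ≫ kincl I A := by
    rw [hg, kernel.lift_ι]
  rw [← cancel_epi e, comp_zero, ha, ha', Category.assoc, Category.assoc, cokernel.condition,
    comp_zero, comp_zero]

lemma epi_qmap {A B : X.Modules} (f : A ⟶ B) [Epi f] (hA : Coh.IsCoh A) :
    Epi (qmap (I := I) f hA) := by
  haveI : Epi (cokernel.π (kincl I A) ≫ qmap f hA) := by rw [π_qmap]; infer_instance
  exact epi_of_epi (cokernel.π (kincl I A)) _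

lemma deg_of_mono {n : ℕ} : ∀ {A B : X.Modules} (f : A ⟶ B) [Mono f], Coh.IsCoh A →
    Coh.IsCoh B → Deg I n B → Deg I n A := by
  induction n with
  | zero => exact fun f _ _ _ h ↦ isZero_of_mono f h
  | succ n ih =>
    intro A B f _ hA hB h
    haveI := mono_qmap (I := I) f hA hB
    exact ih (qmap f hA) (isCoh_kc hA) (isCoh_kc hB) h

lemma deg_of_epi {n : ℕ} : ∀ {A B : X.Modules} (f : A ⟶ B) [Epi f], Coh.IsCoh A →
    Coh.IsCoh B → Deg I n A → Deg I n B := by
  induction n with
  | zero => exact fun f _ _ _ h ↦ isZero_of_epi f h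
  | succ n ih =>
    intro A B f _ hA hB h
    haveI := epi_qmap (I := I) f hA
    exact ih (qmap f hA) (isCoh_kc hA) (isCoh_kc hB) h

lemma deg_succ {n : ℕ} : ∀ {A : X.Modules}, Coh.IsCoh A → Deg I n A → Deg I (n + 1) A := by
  induction n with
  | zero => exact fun _ h ↦ isZero_of_epi (cokernel.π _) h
  | succ n ih => exact fun hA h ↦ ih (isCoh_kc hA) h

lemma deg_le {n m : ℕ} (h : n ≤ m) {A : X.Modules} (hA : Coh.IsCoh A) (hn : Deg I n A) :
    Deg I m A := by
  induction h with
  | refl => exact hn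
  | step _ ih => exact deg_succ hA ih

lemma isIso_kincl_of_killed {A : X.Modules} (hA : Coh.IsCoh A) (hk : Killed I A) :
    IsIso (kincl I A) := by
  obtain ⟨g, hg⟩ := exists_lift_killSub (I := I) (𝟙 A) hA.1 hk
  haveI : Epi (g ≫ kincl I A) := by rw [hg]; infer_instance
  haveI : Epi (kincl I A) := epi_of_epi g _
  exact isIso_of_mono_of_epi _

lemma deg_one_of_killed {A : X.Modules} (hA : Coh.IsCoh A) (hk : Killed I A) : Deg I 1 A := by
  haveI := isIso_kincl_of_killed hA hk
  exact isZero_cokernel_of_epi (kincl I A)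

theorem deg_ext : ∀ (a : ℕ) {c : ℕ} {S : ShortComplex X.Modules}, S.ShortExact →
    Coh.IsCoh S.X₁ → Coh.IsCoh S.X₂ → Coh.IsCoh S.X₃ → Deg I a S.X₁ → Deg I c S.X₃ →
    Deg I (a + c) S.X₂ := by
  intro a
  induction a with
  | zero =>
    intro c S hS h₁ h₂ h₃ ha hc
    haveI := hS.exact.mono_g (IsZero.eq_of_src ha _ _)
    haveI := hS.epi_g
    haveI := isIso_of_mono_of_epi S.g
    rw [zero_add]
    exact deg_of_mono S.g h₂ h₃ hc
  | succ a ih =>
    intro c S hS h₁ h₂ h₃ ha hc
    haveI := hS.mono_f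
    haveI := hS.epi_g
    let q := qmap (I := I) S.f h₁
    haveI : Mono q := mono_qmap S.f h₁ h₂
    have hQ := isCoh_cokernel q (isCoh_kc h₁).1 (isCoh_kc h₂)
    have hz : S.f ≫ cokernel.π (kincl I S.X₂) ≫ cokernel.π q = 0 := by
      rw [← π_qmap_assoc S.f h₁, cokernel.condition, comp_zero]
    let r : S.X₃ ⟶ cokernel q := hS.exact.desc _ hz
    have hr : S.g ≫ r = cokernel.π (kincl I S.X₂) ≫ cokernel.π q := hS.exact.g_desc _ hz
    haveI : Epi (S.g ≫ r) := by rw [hr]; infer_instance
    haveI : Epi r := epi_of_epi S.g r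
    rw [show a + 1 + c = a + c + 1 by omega]
    exact ih (S := ShortComplex.mk q (cokernel.π q) (cokernel.condition q))
      { exact := ShortComplex.exact_of_g_is_cokernel _ (cokernelIsCokernel q)
        mono_f := inferInstanceAs (Mono q)
        epi_g := inferInstanceAs (Epi (cokernel.π q)) }
      (isCoh_kc h₁) (isCoh_kc h₂) hQ ha (deg_of_epi r h₃ hQ hc)

/-- If the ideal is supported everywhere, every coherent module has finite degree. -/
theorem exists_deg (hI : ∀ x : X, I ≤ IntMult.ptIdeal x) {M : X.Modules} (hM : Coh.IsCoh M) :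
    ∃ n, Deg I n M := by
  refine devissage (fun M ↦ ∃ n, Deg I n M) (fun M h ↦ ⟨0, h⟩)
    (fun S hS h₁ h₂ h₃ ⟨a, ha⟩ ⟨c, hc⟩ ↦ ⟨a + c, deg_ext a hS h₁ h₂ h₃ ha hc⟩)
    (fun M hM hz ↦ ?_) hM
  obtain ⟨x, J, f, g, hf, hg, hJ, hx⟩ := exists_piece hM hz
  exact ⟨J, f, hf, hJ, fun h0 ↦ hx (AddCommGrpCat.subsingleton_of_isZero
    ((Scheme.Modules.toPresheaf X ⋙ TopCat.Presheaf.stalkFunctor AddCommGrpCat.{u} x).map_isZero h0)),
    1, deg_one_of_killed hJ (killed_mono_ideal (hI x) (killed_of_mono g (killed_oz x)))⟩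

/-! ### Extending additive functions -/

variable {G : Type w} [AddCommGroup G] (v : X.Modules → G)

/-- Additivity on killed coherent modules. -/
def AdditiveOnKilled (I : X.IdealSheafData) : Prop :=
  ∀ S : ShortComplex X.Modules, S.ShortExact → Coh.IsCoh S.X₁ → Coh.IsCoh S.X₂ → Coh.IsCoh S.X₃ →
    Killed I S.X₁ → Killed I S.X₂ → Killed I S.X₃ → v S.X₂ = v S.X₁ + v S.X₃

variable (I) in
/-- The extension in `n` steps. -/
def ext' : ℕ → X.Modules → G
  | 0, _ => 0
  | n + 1, M => v (killSub I M) + ext' n (kc I M)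

variable {v}

section
variable (hv : AdditiveOnKilled v I)

omit [AlgebraicGeometry.IsNoetherian X] in
include hv in
lemma v_zero {M : X.Modules} (h : IsZero M) : v M = 0 := by
  let S := ShortComplex.mk (𝟙 M) (0 : M ⟶ M) (h.eq_of_tgt _ _)
  have := hv S { exact := ShortComplex.exact_of_isZero_X₂ _ h
                 mono_f := inferInstanceAs (Mono (𝟙 M))
                 epi_g := ⟨fun _ _ _ ↦ h.eq_of_src _ _⟩ }
    (isCoh_of_isZero h) (isCoh_of_isZero h) (isCoh_of_isZero h)
    (killed_of_isZero h) (killed_of_isZero h) (killed_of_isZero h)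
  simpa [S] using this.symm

include hv in
lemma v_isIso {A B : X.Modules} (f : A ⟶ B) [IsIso f] (hA : Coh.IsCoh A) (hk : Killed I A) :
    v A = v B := by
  let S := ShortComplex.mk (0 : kernel f ⟶ A) f zero_comp
  have hz : IsZero (kernel f) := isZero_kernel_of_mono f
  have hS : S.ShortExact :=
    { exact := by
        haveI : Mono S.g := inferInstanceAs (Mono f)
        exact (S.exact_iff_mono rfl).mpr this
      mono_f := ⟨fun _ _ _ ↦ hz.eq_of_tgt _ _⟩
      epi_g := inferInstanceAs (Epi f) }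
  have hB : Coh.IsCoh B := isCoh_of_iso (asIso f) hA
  exact (hv S hS (isCoh_of_isZero hz) hA hB (killed_of_isZero hz) hk
    (killed_of_mono (inv f) hk)).trans (by rw [v_zero hv hz, zero_add])

include hv in
lemma ext'_zero {n : ℕ} : ∀ {M : X.Modules}, Coh.IsCoh M → IsZero M → ext' I v n M = 0 := by
  induction n with
  | zero => exact fun _ _ ↦ rfl
  | succ n ih =>
    intro M hM h
    change v _ + _ = 0
    rw [v_zero hv (isZero_of_mono (kincl I M) h),
      ih (isCoh_kc hM) (isZero_of_epi (cokernel.π _) h), add_zero]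

include hv in
lemma ext'_succ {n : ℕ} : ∀ {M : X.Modules}, Coh.IsCoh M → Deg I n M →
    ext' I v (n + 1) M = ext' I v n M := by
  induction n with
  | zero => exact fun hM h ↦ ext'_zero hv hM h
  | succ n ih =>
    intro M hM h
    exact congrArg (v (killSub I M) + ·) (ih (isCoh_kc hM) h)

include hv in
lemma ext'_le {n m : ℕ} (h : n ≤ m) {M : X.Modules} (hM : Coh.IsCoh M) (hn : Deg I n M) :
    ext' I v m M = ext' I v n M := by
  induction h with
  | refl => rfl
  | step h ih => exact (ext'_succ hv hM (deg_le h hM hn)).trans ih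

include hv in
lemma ext'_killed {n : ℕ} {Q : X.Modules} (hQ : Coh.IsCoh Q) (hk : Killed I Q) (hn : Deg I n Q) :
    ext' I v n Q = v Q := by
  cases n with
  | zero => exact (v_zero hv hn).symm
  | succ n =>
    haveI := isIso_kincl_of_killed hQ hk
    change v _ + _ = _
    rw [ext'_zero hv (isCoh_kc hQ) (isZero_cokernel_of_epi _), add_zero]
    exact v_isIso hv (kincl I Q) (isCoh_killSub hQ) (killed_killSub hQ)

include hv in
/-- Splitting off a killed submodule. -/
lemma ext'_split {n : ℕ}
    (ih : ∀ S : ShortComplex X.Modules, S.ShortExact → Coh.IsCoh S.X₁ → Coh.IsCoh S.X₂ →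
      Coh.IsCoh S.X₃ → Deg I n S.X₂ → ext' I v n S.X₂ = ext' I v n S.X₁ + ext' I v n S.X₃)
    {C' C : X.Modules} (i : C' ⟶ C) [Mono i] (hC : Coh.IsCoh C) (hC' : Coh.IsCoh C')
    (hk : Killed I C') (hn : Deg I n (cokernel i)) :
    ext' I v (n + 1) C = v C' + ext' I v n (cokernel i) := by
  obtain ⟨l, hl⟩ := exists_lift_killSub (I := I) i hC'.1 hk
  haveI : Mono (l ≫ kincl I C) := by rw [hl]; infer_instance
  haveI : Mono l := mono_of_mono l (kincl I C)
  let a : cokernel l ⟶ cokernel i := cokernel.map l i (𝟙 _) (kincl I C) (by rw [hl, Category.id_comp])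
  have ha : cokernel.π l ≫ a = kincl I C ≫ cokernel.π i := cokernel.π_desc _ _ _
  let b : cokernel i ⟶ kc I C := cokernel.desc i (cokernel.π _)
    (by rw [← hl, Category.assoc, cokernel.condition, comp_zero])
  have hb : cokernel.π i ≫ b = cokernel.π _ := cokernel.π_desc _ _ _
  have w : a ≫ b = 0 := by
    rw [← cancel_epi (cokernel.π l), ← Category.assoc, ha, Category.assoc, hb, cokernel.condition,
      comp_zero]
  haveI : Mono a := Preadditive.mono_of_cancel_zero _ fun {T} z hz ↦ by
    obtain ⟨T', e, he, y, hy⟩ := surjective_up_to_refinements_of_epi (cokernel.π l) z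
    have h0 : (y ≫ kincl I C) ≫ cokernel.π i = 0 := by
      rw [Category.assoc, ← ha, ← Category.assoc, ← hy, Category.assoc, hz, comp_zero]
    have hy' : Abelian.monoLift i _ h0 ≫ l = y := by
      rw [← cancel_mono (kincl I C), Category.assoc, hl, Abelian.monoLift_comp]
    rw [← cancel_epi e, comp_zero, hy, ← hy', Category.assoc, cokernel.condition, comp_zero]
  haveI : Epi b := by
    haveI : Epi (cokernel.π i ≫ b) := by rw [hb]; infer_instance
    exact epi_of_epi (cokernel.π i) b
  have hS : (ShortComplex.mk a b w).ShortExact :=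
    { exact := by
        rw [ShortComplex.exact_iff_exact_up_to_refinements]
        intro T k hk
        dsimp at hk ⊢
        obtain ⟨T', e, he, y, hy⟩ := surjective_up_to_refinements_of_epi (cokernel.π i) k
        have h0 : y ≫ cokernel.π (kincl I C) = 0 := by
          rw [← hb, ← Category.assoc, ← hy, Category.assoc, hk, comp_zero]
        refine ⟨T', e, he, Abelian.monoLift (kincl I C) y h0 ≫ cokernel.π l, ?_⟩
        rw [hy, Category.assoc, ha, ← Category.assoc, Abelian.monoLift_comp]
      mono_f := inferInstanceAs (Mono a)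
      epi_g := inferInstanceAs (Epi b) }
  have hQ := isCoh_cokernel l hC'.1 (isCoh_killSub (I := I) hC)
  have hQ' := isCoh_cokernel i hC'.1 hC
  have hQk : Killed I (cokernel l) :=
    killed_of_epi (cokernel.π l) (isCoh_killSub hC).1 hQ.1 (killed_killSub hC)
  have e1 := ih _ hS hQ hQ' (isCoh_kc hC) hn
  have e2 := ext'_killed hv hQ hQk (deg_of_mono a hQ hQ' hn)
  have e3 := hv (ShortComplex.mk l (cokernel.π l) (cokernel.condition l))
    { exact := ShortComplex.exact_of_g_is_cokernel _ (cokernelIsCokernel l)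
      mono_f := inferInstanceAs (Mono l)
      epi_g := inferInstanceAs (Epi (cokernel.π l)) }
    hC' (isCoh_killSub hC) hQ hk (killed_killSub hC) hQk
  change v (killSub I C) + ext' I v n (kc I C) = _
  dsimp at e1 e3
  rw [e3, e1, e2]; abel

include hv in
/-- The extension is additive. -/
theorem ext'_additive : ∀ (n : ℕ) (S : ShortComplex X.Modules), S.ShortExact → Coh.IsCoh S.X₁ →
    Coh.IsCoh S.X₂ → Coh.IsCoh S.X₃ → Deg I n S.X₂ →
    ext' I v n S.X₂ = ext' I v n S.X₁ + ext' I v n S.X₃ := by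
  intro n
  induction n with
  | zero => exact fun S _ _ _ _ _ ↦ (add_zero (0 : G)).symm
  | succ n ih =>
    intro S hS h₁ h₂ h₃ hn
    haveI := hS.mono_f
    haveI := hS.epi_g
    let h := kincl I S.X₂ ≫ S.g
    let C' := Abelian.image h
    let p : killSub I S.X₂ ⟶ C' := Abelian.factorThruImage h
    let i : C' ⟶ S.X₃ := Abelian.image.ι h
    have hpi : p ≫ i = h := Abelian.image.fac h
    have hkB := isCoh_killSub (I := I) h₂
    have hC' : Coh.IsCoh C' := isCoh_image h hkB h₃.1
    have hk : Killed I C' := killed_of_epi p hkB.1 hC'.1 (killed_killSub h₂)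
    let f₁ := kmap (I := I) S.f h₁
    have w₁ : f₁ ≫ p = 0 := by
      rw [← cancel_mono i, Category.assoc, hpi, zero_comp, ← Category.assoc, kmap_spec,
        Category.assoc, S.zero, comp_zero]
    haveI : Mono (f₁ ≫ kincl I S.X₂) := by rw [kmap_spec]; infer_instance
    haveI : Mono f₁ := mono_of_mono f₁ (kincl I S.X₂)
    have hS₁ : (ShortComplex.mk f₁ p w₁).ShortExact :=
      { exact := by
          let K := kernel h
          let c : K ⟶ S.X₁ := hS.exact.lift (kernel.ι h ≫ kincl I S.X₂)
            (by rw [Category.assoc]; exact kernel.condition h)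
          have hc : c ≫ S.f = kernel.ι h ≫ kincl I S.X₂ := hS.exact.lift_f _ _
          haveI : Mono (c ≫ S.f) := by rw [hc]; infer_instance
          haveI : Mono c := mono_of_mono c S.f
          obtain ⟨g, hg⟩ := exists_lift_killSub (I := I) c (isCoh_kernel' h hkB h₃).1
            (killed_of_mono (kernel.ι h) (killed_killSub h₂))
          rw [ShortComplex.exact_iff_exact_up_to_refinements]
          intro T k hk'
          dsimp at hk' ⊢
          have h0 : k ≫ h = 0 := by rw [← hpi, ← Category.assoc, hk', zero_comp]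
          refine ⟨T, 𝟙 T, inferInstance, kernel.lift h k h0 ≫ g, ?_⟩
          rw [← cancel_mono (kincl I S.X₂), Category.id_comp, Category.assoc, Category.assoc,
            kmap_spec, ← Category.assoc g, hg, hc, kernel.lift_ι_assoc]
        mono_f := inferInstanceAs (Mono f₁)
        epi_g := inferInstanceAs (Epi p) }
    let q := qmap (I := I) S.f h₁
    haveI : Mono q := mono_qmap S.f h₁ h₂
    let r : kc I S.X₂ ⟶ cokernel i := cokernel.desc _ (S.g ≫ cokernel.π i)
      (by rw [← Category.assoc]; change h ≫ _ = 0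
          rw [← hpi, Category.assoc, cokernel.condition, comp_zero])
    have hr : cokernel.π _ ≫ r = S.g ≫ cokernel.π i := cokernel.π_desc _ _ _
    have w₂ : q ≫ r = 0 := by
      rw [← cancel_epi (cokernel.π (kincl I S.X₁)), ← Category.assoc, π_qmap, Category.assoc, hr,
        S.zero_assoc, zero_comp, comp_zero]
    haveI : Epi r := by
      haveI : Epi (cokernel.π (kincl I S.X₂) ≫ r) := by rw [hr]; infer_instance
      exact epi_of_epi (cokernel.π (kincl I S.X₂)) r
    have hS₂ : (ShortComplex.mk q r w₂).ShortExact :=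
      { exact := by
          rw [ShortComplex.exact_iff_exact_up_to_refinements]
          intro T k hk'
          dsimp at hk' ⊢
          obtain ⟨T₁, e₁, he₁, b, hb⟩ :=
            surjective_up_to_refinements_of_epi (cokernel.π (kincl I S.X₂)) k
          have h0 : (b ≫ S.g) ≫ cokernel.π i = 0 := by
            rw [Category.assoc, ← hr, ← Category.assoc, ← hb, Category.assoc, hk', comp_zero]
          obtain ⟨T₂, e₂, he₂, m, hm⟩ :=
            surjective_up_to_refinements_of_epi p (Abelian.monoLift i _ h0)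
          have h3 : (e₂ ≫ b - m ≫ kincl I S.X₂) ≫ S.g = 0 := by
            rw [Preadditive.sub_comp, Category.assoc m, show kincl I S.X₂ ≫ S.g = p ≫ i from
              hpi.symm, ← Category.assoc m, ← hm, Category.assoc, Category.assoc e₂,
              Abelian.monoLift_comp, sub_self]
          refine ⟨T₂, e₂ ≫ e₁, epi_comp _ _, hS.exact.lift _ h3 ≫ cokernel.π _, ?_⟩
          rw [Category.assoc, hb, Category.assoc, π_qmap, ← Category.assoc (hS.exact.lift _ h3),
            hS.exact.lift_f, Preadditive.sub_comp, Category.assoc e₂, Category.assoc m,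
            cokernel.condition, comp_zero, sub_zero]
        mono_f := inferInstanceAs (Mono q)
        epi_g := inferInstanceAs (Epi r) }
    have e1 := hv _ hS₁ (isCoh_killSub h₁) hkB hC' (killed_killSub h₁) (killed_killSub h₂) hk
    have e2 := ih _ hS₂ (isCoh_kc h₁) (isCoh_kc h₂) (isCoh_cokernel i hC'.1 h₃) hn
    have e3 := ext'_split hv ih i h₃ hC' hk
      (deg_of_epi r (isCoh_kc h₂) (isCoh_cokernel i hC'.1 h₃) hn)
    dsimp at e1 e2
    change v (killSub I S.X₂) + ext' I v n (kc I S.X₂) =
      (v (killSub I S.X₁) + ext' I v n (kc I S.X₁)) + _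
    rw [e1, e2, e3]; abel

end

/-- An additive function on killed coherent modules extends to `K₀(Coh X)`. -/
theorem exists_hom (hI : ∀ x : X, I ≤ IntMult.ptIdeal x) (hv : AdditiveOnKilled v I) :
    ∃ φ : SGA6.Kcoh X →+ G, ∀ M, Coh.IsCoh M → Killed I M → φ (kcl M) = v M := by
  choose deg hdeg using fun M : Subtype (fun M : X.Modules => Coh.IsCoh M) ↦ exists_deg hI M.2
  let φ₀ : FreeAbelianGroup (Subtype (fun M : X.Modules => Coh.IsCoh M)) →+ G :=
    FreeAbelianGroup.lift fun M ↦ ext' I v (deg M) M.1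
  have hw : ∀ (M : Subtype (fun M : X.Modules => Coh.IsCoh M)) (n : ℕ), Deg I n M.1 →
      ext' I v (deg M) M.1 = ext' I v n M.1 := fun M n hn ↦
    ((ext'_le hv (le_max_left _ n) M.2 (hdeg M)).symm).trans
      (ext'_le hv (le_max_right _ n) M.2 hn)
  have hrel : KZero.relSub (fun M : X.Modules => Coh.IsCoh M) ≤ φ₀.ker := by
    rw [KZero.relSub, AddSubgroup.closure_le]
    rintro _ ⟨S, h₁, h₂, h₃, hS, rfl⟩
    simp only [SetLike.mem_coe, AddMonoidHom.mem_ker, map_sub, φ₀, FreeAbelianGroup.lift_apply_of]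
    haveI := hS.mono_f
    haveI := hS.epi_g
    have hd := hdeg ⟨S.X₂, h₂⟩
    rw [hw ⟨S.X₁, h₁⟩ _ (deg_of_mono S.f h₁ h₂ hd), hw ⟨S.X₃, h₃⟩ _ (deg_of_epi S.g h₂ h₃ hd),
      ext'_additive hv _ S hS h₁ h₂ h₃ hd]
    abel
  refine ⟨QuotientAddGroup.lift _ φ₀ hrel, fun M hM hk ↦ ?_⟩
  simp only [kcl, KZero.clSub, dif_pos hM]
  refine (FreeAbelianGroup.lift_apply_of _ _).trans ?_
  exact ext'_killed hv hM hk (hdeg ⟨M, hM⟩)

end Groth.Agent.CohDev
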