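import Groth.Agent.CohDev.AR
import Groth.Agent.WeakAssSch.Unit
import Groth.Agent.S4641

/-!
# Serre classes of coherent modules are generated by supports
-/

set_option autoImplicit false

universe u

open CategoryTheory CategoryTheory.Limits AlgebraicGeometry TopologicalSpace

noncomputable section

namespace Groth.Agent.CohDev

open Groth.Agent.PullStalk.Sky Groth.Agent.PullStalk.Exact

variable {X : Scheme.{u}}

/-- a Serre class on coherent modules -/
def IsSerreCoh (P : X.Modules → Prop) : Prop :=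
  ∀ S : ShortComplex X.Modules, S.ShortExact → Coh.IsCoh S.X₁ → Coh.IsCoh S.X₂ →
    Coh.IsCoh S.X₃ → (P S.X₂ ↔ P S.X₁ ∧ P S.X₃)

lemma cokerSeq_shortExact {A B : X.Modules} (f : A ⟶ B) [Mono f] :
    (ShortComplex.mk f (cokernel.π f) (cokernel.condition f)).ShortExact :=
  { exact := ShortComplex.exact_of_g_is_cokernel _ (cokernelIsCokernel f)
    mono_f := inferInstanceAs (Mono f)
    epi_g := inferInstanceAs (Epi (cokernel.π f)) }

variable {P : X.Modules → Prop} (hP : IsSerreCoh P)
include hP

lemma IsSerreCoh.of_mono {A B : X.Modules} (f : A ⟶ B) [Mono f] (hA : Coh.IsCoh A) (hB : Coh.IsCoh B)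
    (h : P B) : P A :=
  ((hP _ (cokerSeq_shortExact f) hA hB (isCoh_cokernel f hA.1 hB)).1 h).1

lemma IsSerreCoh.of_epi [IsLocallyNoetherian X] {A B : X.Modules} (f : A ⟶ B) [Epi f]
    (hA : Coh.IsCoh A) (hB : Coh.IsCoh B) (h : P A) : P B :=
  ((hP (ShortComplex.mk (kernel.ι f) f (kernel.condition f))
    { exact := ShortComplex.exact_of_f_is_kernel _ (kernelIsKernel f)
      mono_f := inferInstanceAs (Mono (kernel.ι f))
      epi_g := inferInstanceAs (Epi f) } (isCoh_kernel f hA hB.1) hA hB).1 h).2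

lemma IsSerreCoh.of_isZero {F M : X.Modules} (hF : Coh.IsCoh F) (hPF : P F) (hM : IsZero M) : P M :=
  have : Mono (0 : M ⟶ F) := ⟨fun _ _ _ => hM.eq_of_tgt _ _⟩
  hP.of_mono (0 : M ⟶ F) (isCoh_of_isZero hM) hF hPF

lemma IsSerreCoh.biprod {A B : X.Modules} (hA : Coh.IsCoh A) (hB : Coh.IsCoh B) (a : P A) (b : P B) :
    P (A ⊞ B) :=
  (hP _ (ShortComplex.Splitting.ofHasBinaryBiproduct A B).shortExact hA (isCoh_biprod hA hB) hB).2 ⟨a, b⟩

/-- A Serre class containing `F` contains everything supported in `Supp F`. -/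
theorem IsSerreCoh.generate [IsNoetherian X] {F : X.Modules} (hF : Coh.IsCoh F) (hPF : P F)
    {E : X.Modules} (hE : Coh.IsCoh E) (hs : CohB1.support E ⊆ CohB1.support F) : P E := by
  let T : Set X := CohB1.support F
  have h2 : TwoOfThree T P := fun S hS h₁ h₂ h₃ _ =>
    ⟨fun _ b => ((hP S hS h₁ h₂ h₃).1 b).2, fun a c => (hP S hS h₁ h₂ h₃).2 ⟨a, c⟩,
      fun b _ => ((hP S hS h₁ h₂ h₃).1 b).1⟩
  refine devissage_two (isClosed_support hF) (fun M hM => hP.of_isZero hF hPF hM) h2
    (fun x hx J hJ hsmall => ?_) hE hs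
  have hxT : closure ({x} : Set X) ⊆ T :=
    closure_minimal (Set.singleton_subset_iff.2 hx) (isClosed_support hF)
  let i := (IntMult.ptIdeal x).subschemeι
  let u := (Scheme.Modules.pullbackPushforwardAdjunction i).unit.app F
  have hp := ZClosLib.CohDescent.isCoh_pullback i F hF
  haveI := hp.1
  have hT := CycLib.isCoh_push _ i hp
  have hk : Killed (IntMult.ptIdeal x)
      ((Scheme.Modules.pushforward i).obj ((Scheme.Modules.pullback i).obj F)) := fun V a ha m => by
    rw [← (IntMult.ptIdeal x).ker_subschemeι_app V, RingHom.mem_ker] at ha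
    change (show Γ((Scheme.Modules.pullback i).obj F, i ⁻¹ᵁ V.1) from i.app V.1 a •
      (show Γ((Scheme.Modules.pullback i).obj F, i ⁻¹ᵁ V.1) from m)) = 0
    rw [ha, zero_smul]
  let G := Abelian.image u
  have hG : Coh.IsCoh G := isCoh_image u hF hT.1
  have hGk : Killed (IntMult.ptIdeal x) G := killed_of_mono (Abelian.image.ι u) hk
  have hPG : P G := hP.of_epi (Abelian.factorThruImage u) hF hG hPF
  have hGs : CohB1.support G ⊆ closure {x} :=
    (support_subset_of_killed hGk).trans (coe_support_ptIdeal x).le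
  have hxG : x ∈ CohB1.support G := fun hsub => by
    haveI := FDesc.QuasiFlat.finite_stalk_of_isCoh F hF x
    have hz : ∀ t : F.presheaf.stalk x, stalkLin u x t = 0 := fun t => by
      rw [← Abelian.image.fac u, stalkLin_comp_apply, @Subsingleton.elim _ hsub (stalkLin _ x t) 0,
        map_zero]
    obtain ⟨V, hV, hxV, -⟩ := exists_isAffineOpen_mem_and_subset (X := X) (Opens.mem_top x)
    have hle : ((IntMult.ptIdeal x).ideal ⟨V, hV⟩).map (X.presheaf.germ V x hxV).hom ≤
        IsLocalRing.maximalIdeal (X.presheaf.stalk x) := by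
      rw [Ideal.map_le_iff_le_comap]
      intro a ha
      rw [ideal_ptIdeal x (show x ∈ (⟨V, hV⟩ : X.affineOpens).1 from hxV)] at ha
      letI := TopCat.Presheaf.algebra_section_stalk X.presheaf (⟨x, hxV⟩ : V)
      haveI := hV.isLocalization_stalk ⟨x, hxV⟩
      exact (IsLocalization.AtPrime.to_map_mem_maximal_iff (X.presheaf.stalk x)
        (hV.primeIdealOf ⟨x, hxV⟩).asIdeal a).2 ha
    have htop : (⊤ : Submodule (X.presheaf.stalk x) (F.presheaf.stalk x)) ≤
        IsLocalRing.maximalIdeal (X.presheaf.stalk x) • ⊤ := fun t _ =>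
      Submodule.smul_mono_left hle (mem_smul_of_unit_eq_zero (IntMult.ptIdeal x) F hV hxV t (hz t))
    have hbot := Submodule.eq_bot_of_le_smul_of_le_jacobson_bot _ ⊤ Module.Finite.fg_top htop
      (IsLocalRing.maximalIdeal_le_jacobson _)
    refine hx (subsingleton_of_forall_eq 0 fun t => ?_)
    have : t ∈ (⊥ : Submodule (X.presheaf.stalk x) (F.presheaf.stalk x)) := hbot ▸ Submodule.mem_top
    exact (Submodule.mem_bot _).1 this
  haveI := FDesc.QuasiFlat.finite_stalk_of_isCoh G hG x
  obtain ⟨d, ⟨θ⟩⟩ := exists_equiv_pow_residue fun a h m => smul_stalk_of_killed hG.1 hGk h m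
  obtain ⟨ρ⟩ := hJ.stalk_residue
  have hJs := hJ.support_subset
  obtain ⟨-, -, hJc, -⟩ := hJ
  obtain ⟨d, rfl⟩ : ∃ e, d = e + 1 := by
    rcases Nat.eq_zero_or_pos d with h | h
    · subst h; exact absurd θ.toEquiv.subsingleton hxG
    · exact ⟨d - 1, by omega⟩
  have hM : Coh.IsCoh (pow J (d + 1)) := (isCoh_pow_and_kcl hJc (d + 1)).1
  have hPM : P (pow J (d + 1)) := piece_of_model h2 hxT hsmall hG hM hGs
    ((support_pow_subset J (d + 1)).trans hJs)
    ((θ.trans (LinearEquiv.piCongrRight fun _ => ρ.symm)).trans (powStalkEquiv J (d + 1) x).symm) hPG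
  exact hP.of_mono (biproduct.ι (fun _ : Fin (d + 1) => J) 0) hJc hM hPM

omit hP

theorem isSerreCoh_support_subset (Z : Set X) : IsSerreCoh fun M : X.Modules => CohB1.support M ⊆ Z :=
  fun S hS _ _ _ => by
    haveI := hS.mono_f
    haveI := hS.epi_g
    exact ⟨fun h => ⟨(support_subset_of_mono S.f).trans h, (support_subset_of_epi S.g).trans h⟩,
      fun h => (support_subset_union hS).trans (Set.union_subset h.1 h.2)⟩

/-- A coherent module with prescribed support. -/
theorem exists_isCoh_support_eq [IsNoetherian X] (Z : Closeds X) :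
    ∃ F : X.Modules, Coh.IsCoh F ∧ CohB1.support F = (Z : Set X) := by
  let I := Scheme.IdealSheafData.vanishingIdeal Z
  let i := I.subschemeι
  have : IsLocallyNoetherian I.subscheme := LocallyOfFiniteType.isLocallyNoetherian i
  have hO : Coh.IsCoh (Coh.structureModule I.subscheme) := by
    have hq : (Coh.structureModule I.subscheme).IsQuasicoherent := WeakAssSch.isQuasicoherent_unit _
    refine ⟨hq, (QCoh.isFiniteType_iff _).mpr fun U _ => ?_⟩
    exact Module.Finite.of_surjective
      (LinearMap.toSpanSingleton Γ(I.subscheme, U) Γ(Coh.structureModule I.subscheme, U)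
        (1 : Γ(I.subscheme, U))) fun b => ⟨b, mul_one (M := Γ(I.subscheme, U)) b⟩
  have hr : Set.range i = (Z : Set X) := by
    rw [Scheme.IdealSheafData.range_subschemeι]
    exact Scheme.IdealSheafData.coe_support_vanishingIdeal _
  have hk : Killed I ((Scheme.Modules.pushforward i).obj (Coh.structureModule I.subscheme)) := fun V a ha m => by
    rw [← I.ker_subschemeι_app V, RingHom.mem_ker] at ha
    change (show Γ(Coh.structureModule I.subscheme, i ⁻¹ᵁ V.1) from i.app V.1 a •
      (show Γ(Coh.structureModule I.subscheme, i ⁻¹ᵁ V.1) from m)) = 0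
    rw [ha, zero_smul]
  haveI := hO.1
  refine ⟨_, CycLib.isCoh_push _ i hO, Set.Subset.antisymm
    ((support_subset_of_killed hk).trans (Scheme.IdealSheafData.coe_support_vanishingIdeal _).le) ?_⟩
  rw [← hr]
  rintro _ ⟨z, rfl⟩ hs
  exact not_subsingleton_iff_nontrivial.mpr (S4641.nontrivial_stalk z)
    (@Function.Surjective.subsingleton _ _ _ hs
      (ClUnit.stalkPushforward_bijective i _ i.isClosedEmbedding.isInducing z).2)

end Groth.Agent.CohDev
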